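import Cfsg.Agent.Lib.Lie.MultExc.OMinusEightTwo.Table
import Cfsg.Agent.Lib.Spor.SchurCert.LinPacked

/-!
The certificate at the prime 3: a polycyclic sequence of a Sylow subgroup and conjugations.
-/

set_option autoImplicit false
set_option maxRecDepth 100000
set_option maxHeartbeats 0

namespace CfsgLib.Lie.MultExc.OMinusEightTwo.P3

open CfsgLib.Spor.SchurCert CfsgLib.Lie.MultExc.MatCert

/-- The Sylow elements. -/
def sw : List (List ℕ) := [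
    [17],
    [18],
    [19],
    [20]]

/-- The conjugating elements. -/
def gw : List (List ℕ) := [
    [21],
    [22],
    [23]]

/-- The certificate. -/
def cert : CfsgLib.Spor.SchurCert.Cert where
  p := 3
  m := 4
  N := 3
  rules := [
    ([0, 0, 0], [3]),
    ([1, 1, 1], []),
    ([2, 2, 2], []),
    ([3, 3, 3], []),
    ([1, 0], [0, 1, 2, 2, 3]),
    ([2, 0], [0, 2, 3, 3]),
    ([2, 1], [1, 2, 3]),
    ([3, 0], [0, 3]),
    ([3, 1], [1, 3]),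
    ([3, 2], [2, 3])]
  maps := [
    [([1], [1, 3, 3]), ([2], [1, 1, 2, 2, 3]), ([3], [3, 3])],
    [([0, 1, 2, 3], [0, 0, 1, 1, 2, 3, 3])],
    [([0, 1, 3], [0, 1, 2, 3]), ([2], [2, 2])]]
  overlaps := [
    ([0, 0, 0, 0], [(0, 0), (7, 0)], [(0, 1)]),
    ([1, 1, 1, 0], [(1, 0)], [(4, 2), (4, 1), (4, 0), (8, 4), (6, 3), (6, 2), (9, 4), (3, 5), (2, 3), (8, 4), (6, 3), (1, 1), (9, 3), (9, 2), (9, 4), (9, 3), (2, 1), (3, 1)]),
    ([1, 0, 0, 0], [(0, 1)], [(4, 0), (7, 4), (5, 3), (5, 2), (4, 1), (9, 5), (2, 3), (3, 3), (3, 4), (5, 3), (4, 2), (0, 0), (8, 0), (9, 1), (9, 2), (9, 4), (9, 3), (2, 1), (3, 1)]),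
    ([2, 2, 2, 0], [(2, 0)], [(5, 2), (5, 1), (5, 0), (9, 3), (9, 2), (3, 3), (9, 3), (2, 1), (3, 1)]),
    ([2, 0, 0, 0], [(0, 1)], [(5, 0), (7, 3), (7, 2), (5, 1), (3, 3), (7, 3), (5, 2), (0, 0), (9, 0), (3, 1)])]
  fuses := [
    ⟨0, [1, 1, 1], [], [(2, 0)], [], [(8, 4), (6, 3), (6, 2), (1, 0), (9, 1), (3, 2), (6, 1), (6, 0), (9, 2), (9, 4), (9, 3), (2, 1), (9, 2), (9, 1), (3, 2), (6, 1), (8, 3), (6, 2), (1, 0), (9, 2), (9, 1), (9, 3), (9, 2), (2, 0), (3, 0)], []⟩,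
    ⟨1, [0, 0, 0], [], [(7, 3), (5, 2), (4, 1), (9, 5), (2, 3), (3, 3), (8, 3), (9, 4), (7, 6), (7, 5), (5, 4), (4, 3), (4, 2), (0, 0), (8, 0), (9, 1), (9, 2), (8, 4), (8, 3), (6, 2), (6, 1), (9, 3), (3, 4), (9, 4), (2, 2), (9, 2), (9, 4), (9, 3), (3, 4), (3, 4), (6, 3), (6, 2), (1, 0), (9, 1), (9, 3), (9, 2), (2, 0), (3, 0)], [], [(7, 6), (7, 5), (5, 4), (4, 3), (4, 2), (0, 0), (8, 0), (9, 1), (9, 2), (8, 4), (8, 3), (6, 2), (6, 1), (9, 3), (3, 4), (9, 4), (2, 2), (9, 2), (9, 4), (9, 3), (3, 4), (3, 4), (5, 3), (5, 2), (4, 1), (4, 0), (8, 4), (6, 3), (6, 2), (9, 4), (3, 5), (2, 3), (9, 4), (3, 5), (2, 3), (8, 4), (8, 3), (1, 1), (8, 2), (8, 1), (9, 3), (9, 2), (3, 3), (7, 3), (5, 2), (4, 1), (9, 5), (2, 3), (3, 3), (7, 3), (4, 2), (0, 0), (8, 0), (9, 1), (9, 2), (3, 3), (6, 2), (6, 1), (9, 3), (8, 5), (8, 4), (6, 3), (6, 2), (1, 0), (9, 1), (3, 2), (9, 2),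 (2, 0), (3, 0)], []⟩,
    ⟨2, [1, 0], [0, 1], [(5, 0), (8, 3), (8, 2), (6, 1), (3, 3)], [(9, 2)], [(5, 1), (5, 0), (9, 3), (9, 2), (3, 3), (8, 3), (6, 2), (6, 1), (9, 3), (3, 4), (2, 2)], [(9, 3), (9, 4), (2, 2)]⟩]
  adj := [
    [],
    [],
    [(0, 1), (4, 2)],
    [(0, 1)]]
  base := []
  dense := [
    [0, 0, 0, 0, 0, 0, 0, 1],
    [0, 0, 1, 1, 0, 0, 0, 0, 1, 1],
    [0, 0, 1, 0, 0, 0, 0, 2, 2, 1],
    [0, 0, 0, 1],
    [0, 0, 0, 1, 0, 0, 0, 0, 0, 2],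
    [0, 1, 2, 0, 0, 0, 0, 0, 1, 2],
    [2, 2, 1, 1, 0, 1, 2, 2, 2, 1],
    [0, 0, 0, 2, 0, 2, 2, 0, 1, 1]]
  tgt := [
    ([], []),
    ([], [(0, 1), (2, 1), (5, 1)]),
    ([], [(0, 2), (1, 2), (2, 2), (4, 1)]),
    ([], [(3, 1)]),
    ([], []),
    ([], [(0, 1), (1, 1), (2, 2), (4, 1), (5, 2), (6, 2), (7, 1)]),
    ([], [(1, 1), (2, 2), (3, 1), (4, 1), (5, 1), (6, 1), (7, 1)]),
    ([], [(0, 1)]),
    ([], [(0, 1), (1, 2), (2, 1), (3, 1)]),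
    ([], [(3, 1), (4, 2)])]

/-- A word from its exponents. -/
def dec : ℕ → ℕ → ℕ → List ℕ
  | 0, _, _ => []
  | k + 1, i, e => List.replicate (e % 3) i ++ dec k (i + 1) (e / 3)

/-- part of an orbit -/
def orb0_0 : List (ℕ × ℕ) := [(2, 27), (3, 15), (8, 0), (16, 72), (17, 1), (27, 7), (45, 39), (62, 28), (77, 18), (94, 3), (105, 30), (122, 69), (143, 33), (150, 21), (151, 16), (157, 42), (171, 63), (178, 6), (179, 9), (185, 45), (203, 55), (210, 12), (211, 2), (217, 60), (229, 48), (238, 54), (252, 36)]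

/-- part of an orbit -/
def orb1_0 : List (ℕ × ℕ) := [(32, 0), (100, 31), (172, 80)]

/-- Orbits inside the subgroup. -/
def orbits : List (ℕ × List (ℕ × List ℕ)) := [(8, orb0_0), (32, orb1_0)].map fun t => (t.1, t.2.map fun e => (e.1, dec 4 0 e.2))

theorem checks : checksU 2 8 mats cert sw gw orbits = true := by decide +kernel

theorem lin_ok : cert.linOK = true :=
  CfsgLib.Spor.SchurCert.Packed.linOK_of_linP cert (by decide +kernel)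

end CfsgLib.Lie.MultExc.OMinusEightTwo.P3
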