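import Cfsg.Agent.Lib.Lie.MultExc.OMinusEightTwo.P2
import Cfsg.Agent.Lib.Lie.MultExc.OMinusEightTwo.P3
import Cfsg.Agent.Lib.Lie.MultExc.Bound
import Cfsg.Agent.Lib.Orth.Centre
import Cfsg.Agent.Lib.Classical.QuadOrder
import Cfsg.Agent.Lib.Perm.Trans.QuadStd
import Cfsg.Agent.Lib.Perm.Trans.QuadSimple

/-!
The orthogonal group of minus type in dimension eight over two elements has no proper stem extension.
-/

set_option autoImplicit false
set_option linter.all false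
set_option maxRecDepth 100000

namespace CfsgLib.Lie.MultExc.OMinusEightTwo

open scoped Matrix
open Matrix CfsgLib.Spor.SchurCert CfsgLib.Lie.MultExc.MatCert CfsgLib.Orth CfsgLib.Perm.Trans
  CfsgLib.Perm.Trans.Quad

universe u

theorem cert_facts : (P2.cert.p = 2 ∧ P2.cert.N = 2 ∧ P2.cert.bound = 1 ∧ P2.cert.m = 12) ∧
    (P3.cert.p = 3 ∧ P3.cert.N = 3 ∧ P3.cert.bound = 1 ∧ P3.cert.m = 4) :=
  ⟨⟨rfl, rfl, rfl, rfl⟩, rfl, rfl, rfl, rfl⟩

/-- the coordinates -/
def coords : (Fin 3 ⊕ Fin 3) ⊕ Fin 2 ≃ Fin 8 :=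
  (Equiv.sumCongr finSumFinEquiv (Equiv.refl _)).trans finSumFinEquiv

/-- a prime dividing the order at most once -/
theorem part_small {G : Type*} [Group G] [Finite G] {Γ : Type*} [Group Γ] [Finite Γ] {τ : Γ →* G}
    (hτ : Cfsg.IsStemExtension τ) {ℓ : ℕ} (hℓ : ℓ.Prime) (h : ¬ ℓ ^ 2 ∣ Nat.card G) :
    ¬ ℓ ∣ Nat.card τ.ker := by
  haveI : Fact ℓ.Prime := ⟨hℓ⟩
  by_cases hd : ℓ ∣ Nat.card G
  · obtain ⟨x, hx⟩ := exists_prime_orderOf_dvd_card' (G := G) ℓ hd
    refine Lie.Mult.not_dvd_ker_of_cyclic hτ (Subgroup.zpowers x) fun hi => h ?_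
    rw [← (Subgroup.zpowers x).card_mul_index, Nat.card_zpowers, hx, sq]
    exact mul_dvd_mul_left ℓ hi
  · exact Lie.Mult.not_dvd_ker_of_cyclic hτ ⊥ (by rwa [Subgroup.index_bot])

variable {F : Type u} [Field F] [Fintype F]

theorem ker_trivial (hF : Fintype.card F = 2) {a b : F}
    (hab : ∀ z₁ z₂ : F, z₁ ^ 2 + a * z₁ * z₂ + b * z₂ ^ 2 = 0 → z₁ = 0 ∧ z₂ = 0)
    {Γ : Type*} [Group Γ] [Finite Γ] (τ : Γ →* ↥(Cfsg.Omega F (Cfsg.quadFormMinus 3 F a b)))
    (hτ : Cfsg.IsStemExtension τ) : τ.ker = ⊥ := by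
  classical
  haveI := Fact.mk Nat.prime_two
  haveI : CharP F 2 := charP_of_card_eq_prime hF
  have h2 : (2 : F) = 0 := CfsgLib.Orth.two_eq_zero_of_even (by rw [hF]; exact even_two)
  have h01 : ∀ x : F, x = 0 ∨ x = 1 := by
    intro x
    by_contra hcon
    push Not at hcon
    have h3 : ({0, 1, x} : Finset F).card = 3 := by
      rw [Finset.card_insert_of_notMem (by simp [hcon.1.symm]),
        Finset.card_insert_of_notMem (by simp [hcon.2.symm]), Finset.card_singleton]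
    have := Finset.card_le_univ ({0, 1, x} : Finset F)
    omega
  have hb1 : b = 1 := (h01 b).resolve_left fun hb => by
    have := (hab 0 1 (by rw [hb]; ring)).2
    exact one_ne_zero this
  have ha1 : a = 1 := (h01 a).resolve_left fun ha => by
    have := (hab 1 1 (by rw [ha, hb1]; linear_combination h2)).1
    exact one_ne_zero this
  have hQ := quadFormMinus_nd (F := F) (m := 3) a b hab
  have hn : 2 ≤ Fintype.card ((Fin 3 ⊕ Fin 3) ⊕ Fin 2) := by simp
  have hex : Fintype.card F ≠ 2 ∨ Fintype.card ((Fin 3 ⊕ Fin 3) ⊕ Fin 2) ≠ 4 := Or.inr (by simp)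
  have hQc : ∀ x, Cfsg.quadFormMinus 3 F a b (MatCert.vec F 2 8 x ∘ coords) = (qc x : F) := by
    intro x
    have hr : List.range 3 = [0, 1, 2] := rfl
    rw [qc, ← CharP.cast_eq_mod F 2, hr, ha1, hb1]
    simp only [List.foldr, Cfsg.quadFormMinus, Fin.sum_univ_three, Function.comp_apply, MatCert.vec, Nat.cast_add,
      Nat.cast_mul, Nat.cast_zero]
    simp [coords, finSumFinEquiv, Fin.natAdd, Fin.castAdd, Fin.castLE]
    ring
  have hcard : Nat.card (Cfsg.Omega F (Cfsg.quadFormMinus 3 F a b)) = 197406720 := by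
    have h := (Cfsg.Omega F (Cfsg.quadFormMinus 3 F a b)).card_mul_index
    rw [omega_index_two hQ hn hex h2, CfsgLib.Classical.card_iso_minus hab 3, hF] at h
    norm_num [Finset.prod_range_succ] at h ⊢
    omega
  obtain ⟨⟨hp2, hN2, hb2, hm2⟩, ⟨hp3, hN3, hb3, hm3⟩⟩ := cert_facts
  have hmem : HasElts (p := 2) (rhoHom coords (Cfsg.quadFormMinus 3 F a b)) mats :=
    hasElts_of_entries hQ one_lt_two coords qc hQc hn hex entries entries_ok
  have hinj := rhoHom_injective (F := F) (Q := Cfsg.quadFormMinus 3 F a b) coords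
  have fac : ∀ (ℓ k r : ℕ), ℓ.Prime → 197406720 = ℓ ^ k * r → ¬ ℓ ∣ r → (197406720 : ℕ).factorization ℓ = k := by
    intro ℓ k r hℓ he hr
    have hr0 : r ≠ 0 := fun h => by rw [h] at hr; simp at hr
    rw [he, Nat.factorization_mul (pow_ne_zero _ hℓ.ne_zero) hr0, Finsupp.add_apply,
      Nat.Prime.factorization_pow hℓ, Finsupp.single_eq_same, Nat.factorization_eq_zero_of_not_dvd hr, add_zero]
  refine CfsgLib.Lie.Mult.ker_eq_bot_of_forall fun ℓ hℓ hd => ?_
  haveI : Fact ℓ.Prime := ⟨hℓ⟩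
  obtain ⟨z, hz⟩ := exists_prime_orderOf_dvd_card' (G := τ.ker) ℓ hd
  have hP : IsPGroup ℓ (Subgroup.zpowers (z : Γ)) :=
    IsPGroup.of_card (n := 1) (by rw [Nat.card_zpowers, Subgroup.orderOf_coe, hz, pow_one])
  have hle : Subgroup.zpowers (z : Γ) ≤ τ.ker := by rw [Subgroup.zpowers_le]; exact z.2
  have hbig : ¬ Nat.card (Subgroup.zpowers (z : Γ)) ≤ 1 := by
    rw [Nat.card_zpowers, Subgroup.orderOf_coe, hz]
    exact not_le.2 hℓ.one_lt
  by_cases e2 : ℓ = 2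
  · subst e2
    refine hbig ?_
    have := part_leU hinj one_lt_two hmem hτ P2.cert (by rw [hp2]; exact Nat.prime_two) (e := 1)
      (by rw [hp2, hN2, pow_one]) (by rw [hb2, hN2]; norm_num)
      (by rw [hcard, hp2, hm2]; exact fac 2 12 48195 Nat.prime_two (by norm_num) (by norm_num))
      P2.checks P2.lin_ok _ hle (by rw [hp2]; exact hP)
    rwa [hb2] at this
  by_cases e3 : ℓ = 3
  · subst e3
    refine hbig ?_
    have := part_leU hinj one_lt_two hmem hτ P3.cert (by rw [hp3]; exact Nat.prime_three) (e := 1)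
      (by rw [hp3, hN3, pow_one]) (by rw [hb3, hN3]; norm_num)
      (by rw [hcard, hp3, hm3]; exact fac 3 4 2437120 Nat.prime_three (by norm_num) (by norm_num))
      P3.checks P3.lin_ok _ hle (by rw [hp3]; exact hP)
    rwa [hb3] at this
  refine part_small hτ hℓ ?_ hd
  rw [hcard, show (197406720 : ℕ) = 2 ^ 12 * (3 ^ 4 * (5 * (7 * 17))) by norm_num]
  intro hdv
  have c : ∀ {q : ℕ}, q.Prime → ℓ ≠ q → ∀ k, Nat.Coprime (ℓ ^ 2) (q ^ k) := fun hq hne k =>
    Nat.Coprime.pow _ _ ((Nat.coprime_primes hℓ hq).2 hne)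
  have h1 := (c Nat.prime_two e2 12).dvd_of_dvd_mul_left hdv
  have h3 := (c Nat.prime_three e3 4).dvd_of_dvd_mul_left h1
  have hl : ℓ ∣ 5 * (7 * 17) := (dvd_pow_self ℓ two_ne_zero).trans h3
  have hsq : ℓ * ℓ ∣ 5 * (7 * 17) := by rw [← sq]; exact h3
  have hle' : ℓ ≤ 17 := by
    rcases hℓ.dvd_mul.1 hl with h | h
    · exact (Nat.le_of_dvd (by norm_num) h).trans (by norm_num)
    rcases hℓ.dvd_mul.1 h with h | h <;> exact (Nat.le_of_dvd (by norm_num) h).trans (by norm_num)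
  interval_cases ℓ <;> first | (norm_num at hsq; done) | (norm_num at hℓ; done)

theorem multiplier_O8minus2 (hF : Fintype.card F = 2) {a b : F}
    (hab : ∀ z₁ z₂ : F, z₁ ^ 2 + a * z₁ * z₂ + b * z₂ ^ 2 = 0 → z₁ = 0 ∧ z₂ = 0) :
    Cfsg.HasCyclicSchurMultiplier (Cfsg.POmega F (Cfsg.quadFormMinus 3 F a b)) 1 := by
  classical
  have hQ := quadFormMinus_nd (F := F) (m := 3) a b hab
  have h2 : (2 : F) = 0 := CfsgLib.Orth.two_eq_zero_of_even (by rw [hF]; exact even_two)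
  have hc := card_center_omega_two hQ (by simp) h2
  obtain ⟨e⟩ : Nonempty (↥(Cfsg.Omega F (Cfsg.quadFormMinus 3 F a b)) ≃*
      Cfsg.POmega F (Cfsg.quadFormMinus 3 F a b)) :=
    ⟨QuotientGroup.quotientBot.symm.trans (QuotientGroup.quotientMulEquivOfEq (Subgroup.card_eq_one.1 hc).symm)⟩
  refine CfsgLib.Schur.hasCyclic_one_of_ker_eq_bot fun Γ _ _ τ hτ => ?_
  have hk : (e.symm.toMonoidHom.comp τ).ker = τ.ker := MonoidHom.ker_comp_of_injective _ _ e.symm.injective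
  have := ker_trivial hF hab (e.symm.toMonoidHom.comp τ)
    ⟨e.symm.surjective.comp hτ.1, hk.le.trans hτ.2.1, hk.le.trans hτ.2.2⟩
  rwa [hk] at this

end CfsgLib.Lie.MultExc.OMinusEightTwo
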