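import Cfsg.Agent.Lib.Lie.MultExc.OMinusEightTwo.Table
import Cfsg.Agent.Lib.Spor.SchurCert.LinPacked

/-!
The certificate at the prime 2: a polycyclic sequence of a Sylow subgroup and conjugations.
-/

set_option autoImplicit false
set_option maxRecDepth 100000
set_option maxHeartbeats 0

namespace CfsgLib.Lie.MultExc.OMinusEightTwo.P2

open CfsgLib.Spor.SchurCert CfsgLib.Lie.MultExc.MatCert

/-- The Sylow elements. -/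
def sw : List (List ℕ) := [
    [0],
    [1],
    [2],
    [3],
    [4],
    [5],
    [6],
    [7],
    [8],
    [9],
    [10],
    [11]]

/-- The conjugating elements. -/
def gw : List (List ℕ) := [
    [12],
    [13],
    [14],
    [15],
    [16]]

/-- The certificate. -/
def cert : CfsgLib.Spor.SchurCert.Cert where
  p := 2
  m := 12
  N := 2
  rules := [
    ([0, 0], [2, 3, 5, 6, 10]),
    ([1, 1], [6, 7, 8, 9, 10, 11]),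
    ([2, 2], [8, 10]),
    ([3, 3], [6, 11]),
    ([4, 4], [11]),
    ([5, 5], [8, 10, 11]),
    ([6, 6], []),
    ([7, 7], []),
    ([8, 8], []),
    ([9, 9], []),
    ([10, 10], []),
    ([11, 11], []),
    ([1, 0], [0, 1, 2, 3, 5, 6, 7]),
    ([2, 0], [0, 2, 4, 6, 7, 9]),
    ([2, 1], [1, 2, 4, 7, 9]),
    ([3, 0], [0, 3, 4, 6, 8, 9, 11]),
    ([3, 1], [1, 3, 4, 6, 9]),
    ([3, 2], [2, 3, 6, 8, 9, 10, 11]),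
    ([4, 0], [0, 4, 6, 8, 10, 11]),
    ([4, 1], [1, 4, 8, 10]),
    ([4, 2], [2, 4, 8, 10, 11]),
    ([4, 3], [3, 4]),
    ([5, 0], [0, 5, 7]),
    ([5, 1], [1, 5, 6, 7, 9, 11]),
    ([5, 2], [2, 5, 8, 10]),
    ([5, 3], [3, 5, 9, 10]),
    ([5, 4], [4, 5, 8, 10]),
    ([6, 0], [0, 6, 10]),
    ([6, 1], [1, 6, 10, 11]),
    ([6, 2], [2, 6, 10]),
    ([6, 3], [3, 6]),
    ([6, 4], [4, 6]),
    ([6, 5], [5, 6, 10, 11]),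
    ([7, 0], [0, 7, 8, 9, 10, 11]),
    ([7, 1], [1, 7, 10, 11]),
    ([7, 2], [2, 7, 8, 11]),
    ([7, 3], [3, 7, 8, 10]),
    ([7, 4], [4, 7]),
    ([7, 5], [5, 7, 10]),
    ([7, 6], [6, 7, 11]),
    ([8, 0], [0, 8, 10, 11]),
    ([8, 1], [1, 8]),
    ([8, 2], [2, 8]),
    ([8, 3], [3, 8, 11]),
    ([8, 4], [4, 8]),
    ([8, 5], [5, 8]),
    ([8, 6], [6, 8]),
    ([8, 7], [7, 8]),
    ([9, 0], [0, 9, 10, 11]),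
    ([9, 1], [1, 9, 11]),
    ([9, 2], [2, 9, 10, 11]),
    ([9, 3], [3, 9, 10, 11]),
    ([9, 4], [4, 9, 11]),
    ([9, 5], [5, 9, 11]),
    ([9, 6], [6, 9]),
    ([9, 7], [7, 9]),
    ([9, 8], [8, 9]),
    ([10, 0], [0, 10, 11]),
    ([10, 1], [1, 10, 11]),
    ([10, 2], [2, 10]),
    ([10, 3], [3, 10]),
    ([10, 4], [4, 10]),
    ([10, 5], [5, 10]),
    ([10, 6], [6, 10]),
    ([10, 7], [7, 10]),
    ([10, 8], [8, 10]),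
    ([10, 9], [9, 10]),
    ([11, 0], [0, 11]),
    ([11, 1], [1, 11]),
    ([11, 2], [2, 11]),
    ([11, 3], [3, 11]),
    ([11, 4], [4, 11]),
    ([11, 5], [5, 11]),
    ([11, 6], [6, 11]),
    ([11, 7], [7, 11]),
    ([11, 8], [8, 11]),
    ([11, 9], [9, 11]),
    ([11, 10], [10, 11])]
  maps := [
    [([0, 5], [0, 2, 3, 4, 9, 11]), ([1, 5], [1, 4, 5, 6, 7, 11]), ([2], [1, 2, 5, 6, 8, 9, 10, 11]), ([3, 5], [3, 5]), ([4], [1, 4, 5, 10]), ([6], [2, 3, 5, 7, 8, 11]), ([7], [1, 2, 3, 4, 6, 7]), ([8], [4, 6, 7, 10, 11]), ([9], [2, 3, 4, 5, 8, 9, 11]), ([10], [6, 8, 9, 10, 11]), ([11], [11])],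
    [([0, 1, 7], [4, 6, 7, 9, 10, 11]), ([2, 7], [0, 1, 2, 4, 6, 7, 8, 9, 11]), ([3, 5], [3, 5, 6, 8, 9, 11]), ([4, 7], [0, 1, 2, 4, 7, 8]), ([6], [0, 1, 4, 6, 8, 10]), ([8], [2, 4, 10]), ([9], [0, 1, 2, 6, 11]), ([10], [10]), ([11], [6, 8, 9])],
    [([1, 5, 6, 9], [1, 5, 6, 9]), ([2, 3, 5, 6, 8, 9], [2, 3, 5, 6, 8, 9]), ([4, 6, 8, 9, 10], [1, 4, 5, 11]), ([7, 9], [1, 5, 6, 7]), ([11], [1, 5, 6, 9, 11])],
    [([0, 1], [0, 1, 2, 5, 7, 9, 11]), ([2], [5, 7, 8, 9, 10, 11]), ([3], [0, 1, 3, 4, 8, 11]), ([4], [2, 4, 5, 7, 8, 9, 10]), ([5], [2, 4, 5, 8, 10]), ([6], [6, 10]), ([7], [4, 5, 9, 10, 11]), ([8], [8, 10]), ([9], [9, 10]), ([10], [10]), ([11], [10, 11])],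
    [([0, 1, 5, 7], [8, 9, 10, 11]), ([2, 5, 7, 9], [2, 4, 6]), ([3, 7], [3, 4, 5, 6, 9, 11]), ([4, 5, 7], [4, 5, 7, 8, 9]), ([6, 9], [0, 1, 5, 6, 7, 9, 10]), ([8, 9], [8, 9]), ([10], [10]), ([11], [0, 1, 5, 7, 8, 9, 10])]]
  overlaps := [
    ([0, 0, 0], [(0, 0), (57, 4), (27, 3), (22, 2), (15, 1), (13, 0), (51, 5), (36, 4), (30, 3), (21, 2), (66, 7), (10, 8), (71, 8), (52, 7), (44, 6), (37, 5), (31, 4), (4, 3), (73, 3), (74, 4), (75, 5), (76, 6), (11, 7), (73, 7), (54, 6), (46, 5), (39, 4), (6, 3), (75, 4), (76, 5), (11, 6), (56, 5), (8, 4), (9, 4), (72, 4), (38, 3), (74, 6), (64, 5), (7, 4), (73, 5), (63, 4), (77, 6), (10, 5), (77, 5), (11, 6)], [(0, 1)]),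
    ([1, 1, 1], [(1, 0), (68, 5), (58, 4), (49, 3), (41, 2), (34, 1), (28, 0), (74, 3), (64, 2), (77, 4), (10, 3), (11, 3), (77, 5), (11, 6)], [(1, 1)]),
    ([1, 1, 0], [(1, 0), (67, 5), (57, 4), (48, 3), (40, 2), (33, 1), (27, 0), (64, 2), (65, 3), (66, 4), (10, 5), (75, 5), (56, 4), (8, 3), (77, 4), (11, 5), (66, 4), (9, 3), (10, 3), (77, 3), (11, 4)], [(12, 1), (12, 0), (34, 6), (28, 5), (23, 4), (16, 3), (14, 2), (1, 1), (69, 6), (59, 5), (50, 4), (42, 3), (35, 2), (29, 1), (64, 3), (65, 4), (75, 6), (65, 5), (8, 4), (76, 5), (66, 4), (77, 6), (10, 5), (11, 5), (71, 6), (61, 5), (52, 4), (37, 3), (31, 2), (77, 6), (11, 7), (64, 6), (55, 5), (7, 4), (66, 5), (9, 4), (60, 4), (30, 3), (21, 2), (61, 5), (31, 4), (4, 3), (73, 3), (77, 4), (73, 5), (63, 4), (6, 3), (76, 4), (66, 3), (72, 5), (62, 4), (53, 3), (77,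 5), (11, 6), (63, 5), (54, 4), (64, 6), (55, 5), (66, 7), (9, 6), (73, 7), (63, 6), (39, 5), (6, 4), (77, 5), (11, 6), (10, 5), (74, 5), (7, 4), (77, 4), (11, 5), (59, 4), (24, 3), (17, 2), (2, 1), (60, 2), (43, 1), (77, 3), (73, 4), (63, 3), (46, 2), (75, 5), (65, 4), (8, 3), (76, 4), (66, 3), (77, 5), (10, 4), (11, 4), (53, 3), (32, 2), (76, 5), (66, 4), (11, 6), (65, 5), (56, 4), (10, 6), (60, 6), (51, 5), (43, 4), (30, 3), (25, 2), (3, 1), (72, 2), (32, 1), (11, 4), (66, 3), (10, 4), (54, 3), (6, 2), (56, 2), (76, 4), (9, 3), (77, 3), (11, 4), (10, 3), (45, 2), (5, 1), (75, 3), (65, 2), (8, 1), (73, 2), (63, 1), (74, 3), (64, 2)]),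
    ([1, 0, 0], [(0, 1)], [(12, 0), (33, 6), (27, 5), (22, 4), (15, 3), (13, 2), (12, 1), (0, 0), (58, 4), (28, 3), (23, 2), (16, 1), (14, 0), (51, 4), (36, 3), (21, 2), (66, 6), (10, 7), (71, 7), (52, 6), (44, 5), (37, 4), (4, 3), (74, 3), (75, 4), (76, 5), (11, 6), (73, 6), (54, 5), (46, 4), (39, 3), (75, 5), (76, 6), (11, 7), (9, 6), (45, 5), (38, 4), (32, 3), (74, 6), (64, 5), (77, 7), (10, 6), (75, 6), (73, 7), (46, 6), (39, 5), (6, 4), (75, 5), (11, 6), (47, 5), (7, 4), (73, 6), (54, 5), (46, 4), (77, 7), (11, 8), (10, 7), (69, 7), (50, 6), (42, 5), (29, 4), (24, 3), (17, 2), (2, 1), (60, 2), (43, 1), (77, 3), (73, 4), (63, 3), (46, 2), (75, 5), (65, 4), (8, 3), (76, 4), (66, 3), (77, 5), (10, 4), (11, 4), (53, 3), (32, 2), (76, 5), (66, 4), (11, 6), (65, 5), (56, 4), (10, 6), (54, 5), (46, 4), (6, 3), (65,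 5), (56, 4), (8, 3), (66, 4), (9, 3), (10, 3), (11, 3), (25, 2), (3, 1), (72, 2), (32, 1), (11, 4), (66, 3), (10, 4), (53, 3), (32, 2), (5, 1), (73, 3), (63, 2), (46, 1), (77, 4), (10, 3), (11, 3), (73, 4), (54, 3), (46, 2), (6, 1), (74, 3), (55, 2), (47, 1), (69, 4), (50, 3), (42, 2), (35, 1), (75, 4), (8, 3), (76, 3), (77, 4), (11, 5), (71, 5), (61, 4), (52, 3), (37, 2), (77, 5), (11, 6), (63, 5), (54, 4), (39, 3), (76, 5), (77, 6), (74, 7), (64, 6), (55, 5), (7, 4), (76, 6), (66, 5), (9, 4), (70, 5), (60, 4), (30, 3), (21, 2), (71, 6), (61, 5), (31, 4), (4, 3), (73, 3), (77, 4), (11, 5), (63, 4), (6, 3), (65, 3), (66, 4), (72, 6), (62, 5), (53, 4), (45, 3), (77, 6), (11, 7), (64, 6), (55, 5), (47, 4), (63, 7), (54, 6), (46, 5), (39, 4), (75, 6), (76, 7), (77, 8), (77, 9), (10, 8), (74, 8), (55, 7), (47, 6), (7,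 5), (75, 7), (56, 6), (8, 5), (76, 6), (9, 5), (77, 5), (11, 6)]),
    ([2, 2, 2], [(2, 0), (59, 1), (42, 0)], [(2, 1)]),
    ([2, 2, 0], [(2, 0), (57, 1), (40, 0), (77, 3), (10, 2), (11, 2)], [(13, 1), (13, 0), (50, 5), (35, 4), (29, 3), (20, 2), (2, 1), (61, 2), (44, 1), (65, 3), (8, 2), (10, 2), (73, 2), (77, 3), (74, 4), (64, 3), (75, 5), (65, 4), (11, 6), (66, 5), (10, 6), (71, 6), (52, 5), (44, 4), (37, 3), (31, 2), (4, 1), (73, 1), (74, 2), (75, 3), (76, 4), (11, 5), (73, 5), (54, 4), (46, 3), (39, 2), (6, 1), (75, 2), (76, 3), (11, 4), (55, 3), (47, 2), (7, 1), (9, 2)]),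
    ([2, 0, 0], [(0, 1), (2, 0), (60, 1), (43, 0), (77, 2), (72, 3), (62, 2), (45, 1), (73, 4), (63, 3), (46, 2), (77, 5), (10, 4)], [(13, 0), (48, 5), (33, 4), (27, 3), (18, 2), (13, 1), (0, 0), (59, 4), (29, 3), (24, 2), (17, 1), (2, 0), (60, 1), (43, 0), (77, 2), (73, 3), (63, 2), (46, 1), (75, 4), (65, 3), (8, 2), (76, 3), (66, 2), (77, 4), (10, 3), (11, 3), (53, 2), (32, 1), (76, 4), (66, 3), (11, 5), (65, 4), (56, 3), (10, 5), (54, 4), (46, 3), (6, 2), (10, 4), (52, 3), (44, 2), (26, 1), (65, 4), (8, 3), (66, 3), (73, 5), (63, 4), (54, 3), (74, 6), (64, 5), (55, 4), (76, 7), (66, 6), (9, 5), (71, 6), (61, 5), (37, 4), (31, 3), (26, 2), (4, 1), (72, 1), (75, 2), (77, 3), (73, 4), (63, 3), (46, 2), (74, 5), (64, 4), (47, 3), (77, 6), (10, 5), (11, 5), (46, 4), (39, 3), (6, 2), (75, 3), (75, 4), (8, 3), (77, 3),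 (11, 4), (63, 3), (39, 2), (77, 4), (77, 5), (10, 4), (74, 4), (7, 3), (75, 3), (76, 4), (77, 5), (11, 6), (66, 5), (9, 4), (10, 4)]),
    ([2, 2, 1], [(2, 0), (58, 1), (41, 0)], [(14, 1), (14, 0), (50, 4), (35, 3), (20, 2), (2, 1), (61, 2), (44, 1), (65, 3), (8, 2), (10, 2), (74, 2), (75, 3), (11, 4), (71, 6), (61, 5), (52, 4), (44, 3), (37, 2), (4, 1), (74, 1), (75, 2), (76, 3), (11, 4), (74, 5), (64, 4), (55, 3), (47, 2), (7, 1), (76, 4), (66, 3), (9, 2)]),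
    ([2, 1, 1], [(1, 1)], [(14, 0), (49, 4), (34, 3), (19, 2), (14, 1), (1, 0), (69, 5), (59, 4), (50, 3), (42, 2), (35, 1), (29, 0), (64, 2), (65, 3), (75, 5), (65, 4), (8, 3), (76, 4), (66, 3), (77, 5), (10, 4), (11, 4), (71, 5), (61, 4), (52, 3), (37, 2), (31, 1), (77, 5), (11, 6), (64, 5), (55, 4), (7, 3), (66, 4), (9, 3), (61, 3), (31, 2), (4, 1), (73, 1), (77, 2), (75, 3), (65, 2), (77, 4), (10, 3), (74, 3), (47, 2), (77, 4), (11, 5), (66, 4)]),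
    ([2, 1, 0], [(14, 0), (48, 4), (33, 3), (18, 2), (13, 1), (12, 0), (35, 6), (29, 5), (24, 4), (17, 3), (2, 2), (60, 3), (43, 2), (77, 4), (73, 5), (63, 4), (46, 3), (75, 6), (65, 5), (8, 4), (76, 5), (66, 4), (77, 6), (10, 5), (11, 5), (53, 4), (32, 3), (76, 6), (66, 5), (11, 7), (65, 6), (56, 5), (10, 7), (54, 6), (46, 5), (6, 4), (64, 6), (55, 5), (47, 4), (65, 7), (56, 6), (8, 5), (71, 7), (61, 6), (52, 5), (37, 4), (26, 3), (64, 6), (47, 5), (66, 7), (77, 9), (10, 8), (11, 8), (54, 7), (46, 6), (39, 5), (75, 7), (76, 8), (74, 9), (55, 8), (47, 7), (7, 6), (76, 8), (9, 7), (71, 7), (44, 6), (31, 5), (26, 4), (4, 3), (72, 3), (75, 4), (77, 5), (73, 6), (63, 5), (46, 4), (75, 7), (65, 6), (8, 5), (11, 6), (63, 5), (6, 4), (65, 4), (10, 5), (74, 5), (47, 4), (75, 6), (8, 5), (76, 5), (77, 6), (11, 7), (66, 6),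 (9, 5), (10, 5)], [(12, 1), (13, 0), (49, 5), (34, 4), (28, 3), (19, 2), (14, 1), (52, 5), (37, 4), (4, 3), (74, 3), (76, 4), (11, 5), (56, 4), (63, 6), (54, 5), (46, 4), (39, 3), (75, 5), (76, 6), (77, 7), (77, 8), (10, 7), (11, 7), (55, 6), (47, 5), (7, 4), (76, 7), (66, 6), (9, 5), (11, 6), (59, 5), (42, 4), (29, 3), (2, 2), (63, 3), (46, 2), (10, 4), (8, 3), (60, 3), (30, 2), (62, 4), (32, 3), (77, 6), (10, 5), (73, 5), (6, 4), (74, 4)]),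
    ([3, 3, 3], [(3, 0), (70, 1), (30, 0)], [(3, 1)]),
    ([3, 3, 0], [(3, 0), (67, 1), (27, 0)], [(15, 1), (15, 0), (70, 6), (51, 5), (43, 4), (30, 3), (21, 2), (3, 1), (71, 2), (31, 1), (73, 3), (6, 2), (75, 2), (11, 3), (11, 5), (61, 4), (52, 3), (44, 2), (4, 1), (75, 1), (76, 2), (11, 3), (63, 3), (54, 2), (46, 1), (65, 4), (56, 3), (8, 2), (66, 3), (9, 2)]),
    ([3, 0, 0], [(0, 1), (17, 0), (70, 6), (60, 5), (51, 4), (43, 3), (30, 2), (3, 1), (73, 2), (6, 1), (75, 1), (11, 2), (77, 4), (10, 3), (11, 3), (53, 2), (45, 1), (73, 4), (54, 3), (46, 2), (77, 5)], [(15, 0), (67, 6), (48, 5), (40, 4), (27, 3), (18, 2), (15, 1), (0, 0), (60, 4), (30, 3), (25, 2), (3, 1), (72, 2), (32, 1), (11, 4), (66, 3), (10, 4), (54, 3), (6, 2), (61, 3), (52, 2), (26, 1), (66, 4), (77, 6), (10, 5), (73, 5), (54, 4), (46, 3), (75,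 6), (56, 5), (8, 4), (76, 5), (9, 4), (11, 4), (31, 3), (26, 2), (4, 1), (72, 1), (75, 2), (77, 3), (73, 4), (63, 3), (46, 2), (73, 5), (63, 4), (46, 3), (6, 2), (75, 4), (65, 3), (8, 2), (77, 3), (10, 2), (11, 2), (65, 3), (10, 4), (76, 4), (77, 5), (11, 6)]),
    ([3, 3, 1], [(3, 0), (68, 1), (28, 0), (11, 3)], [(16, 1), (16, 0), (51, 4), (30, 3), (21, 2), (3, 1), (71, 2), (31, 1), (73, 3), (6, 2), (76, 2), (77, 3), (11, 4), (61, 3), (52, 2), (4, 1), (76, 1), (11, 2), (63, 2), (54, 1), (66, 3), (9, 2)]),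
    ([3, 1, 1], [(1, 1)], [(16, 0), (49, 4), (28, 3), (19, 2), (16, 1), (1, 0), (70, 5), (60, 4), (51, 3), (43, 2), (36, 1), (30, 0), (65, 4), (8, 3), (76, 4), (66, 3), (77, 5), (10, 4), (11, 4), (71, 5), (61, 4), (52, 3), (37, 2), (31, 1), (77, 5), (11, 6), (63, 5), (54, 4), (39, 3), (6, 2), (76, 3), (77, 4), (76, 5), (66, 4), (9, 3), (71, 4), (61, 3), (37, 2), (4, 1), (74, 1), (77, 2), (11, 3), (65, 2), (10, 3), (46, 2), (39, 1), (75, 3), (77, 4), (11, 5), (66, 4)]),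
    ([3, 1, 0], [(16, 0), (48, 4), (27, 3), (18, 2), (15, 1), (12, 0), (36, 6), (30, 5), (25, 4), (3, 3), (72, 4), (32, 3), (11, 6), (66, 5), (10, 6), (54, 5), (6, 4), (55, 4), (56, 5), (61, 7), (52, 6), (44, 5), (37, 4), (26, 3), (64, 6), (47, 5), (65, 7), (8, 6), (66, 6), (77, 8), (10, 7), (73, 7), (54, 6), (39, 5), (76, 7), (11, 8), (56, 7), (9, 8), (71, 8), (44, 7), (37, 6), (31, 5), (26, 4), (4, 3), (72, 3), (75, 4), (77, 5), (73, 6), (63, 5), (46, 4), (74, 7), (64, 6), (47, 5), (75, 8), (65, 7), (8, 6), (11, 7), (63, 6), (39, 5), (6, 4), (77, 5), (75, 6), (65, 5), (77, 7), (10, 6), (11, 6), (46, 5), (39, 4), (75, 6), (77, 7), (76, 8), (66, 7), (77, 9), (10, 8), (11, 8)], [(12, 1), (15, 0), (68, 6), (49, 5), (41, 4), (28, 3), (19, 2), (16, 1), (52, 5), (31, 4), (4, 3), (73, 3), (76, 4), (11, 5), (56, 4), (63,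 6), (54, 5), (46, 4), (6, 3), (10, 5), (75, 5), (56, 4), (8, 3), (76, 4), (9, 3), (11, 3), (69, 3), (17, 2), (11, 8), (60, 7), (51, 6), (43, 5), (30, 4), (3, 3), (73, 4), (6, 3), (75, 3), (11, 4), (77, 6), (10, 5), (72, 5), (53, 4), (45, 3), (11, 6), (54, 5), (46, 4), (55, 6), (47, 5)]),
    ([3, 3, 2], [(3, 0), (69, 1), (29, 0)], [(17, 1), (17, 0), (70, 6), (60, 5), (51, 4), (43, 3), (30, 2), (3, 1), (73, 2), (6, 1), (75, 1), (11, 2), (77, 4), (10, 3), (11, 3), (54, 2), (46, 1), (56, 3), (8, 2), (9, 2)]),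
    ([3, 2, 2], [(2, 1)], [(17, 0), (69, 6), (59, 5), (50, 4), (42, 3), (29, 2), (17, 1), (2, 0), (60, 1), (43, 0), (77, 2), (73, 3), (63, 2), (46, 1), (75, 4), (65, 3), (8, 2), (76, 3), (66, 2), (77, 4), (10, 3), (11, 3), (54, 2), (6, 1), (65, 2), (56, 1), (66, 3), (9, 2), (10, 2), (77, 2), (11, 3)]),
    ([3, 2, 0], [(17, 0), (67, 6), (57, 5), (48, 4), (40, 3), (27, 2), (15, 1), (13, 0), (51, 5), (36, 4), (30, 3), (21, 2), (66, 7), (10, 8), (71, 8), (52, 7), (44, 6), (37, 5), (31, 4), (4, 3), (73, 3), (74, 4), (75, 5), (76, 6), (11, 7), (73, 7), (54, 6), (46, 5), (39, 4), (6, 3), (75, 4), (76, 5), (11, 6), (56, 5), (8, 4), (9, 4), (73, 4), (39, 3), (11, 5), (65, 5), (10, 6), (76, 6), (77, 7), (11, 8), (10, 7), (11, 7)], [(13, 1), (15, 0), (69, 6), (50, 5), (42, 4), (29, 3), (20, 2), (17, 1), (71, 7), (61, 6), (52,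 5), (44, 4), (31, 3), (77, 7), (11, 8), (65, 7), (56, 6), (8, 5), (10, 6), (73, 6), (54, 5), (6, 4), (77, 5), (75, 6), (65, 5), (56, 4), (76, 7), (66, 6), (9, 5), (77, 6), (10, 5), (11, 5), (71, 5), (44, 4), (4, 3), (75, 3), (11, 4), (46, 3), (47, 4)]),
    ([3, 2, 1], [(17, 0), (68, 6), (58, 5), (49, 4), (41, 3), (28, 2), (16, 1), (14, 0), (51, 4), (36, 3), (21, 2), (66, 6), (10, 7), (71, 7), (52, 6), (44, 5), (37, 4), (4, 3), (74, 3), (75, 4), (76, 5), (11, 6), (73, 6), (54, 5), (46, 4), (39, 3), (75, 5), (76, 6), (11, 7), (9, 6), (46, 5), (39, 4), (6, 3), (75, 4), (77, 5), (11, 6), (65, 5), (8, 4), (66, 4), (77, 6), (10, 5), (11, 5)], [(14, 1), (16, 0), (50, 4), (29, 3), (20, 2), (17, 1), (71, 7), (61, 6), (52, 5), (44, 4), (31, 3), (77, 7), (11, 8), (65, 7), (56, 6), (8, 5), (10, 6), (73, 6), (54, 5), (6, 4),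 (77, 5), (76, 6), (66, 5), (9, 4), (77, 5), (10, 4), (11, 4), (4, 3), (74, 3), (76, 4)]),
    ([4, 4, 4], [(4, 0), (71, 0)], [(4, 1)]),
    ([4, 4, 0], [(4, 0), (67, 0)], [(18, 1), (18, 0), (71, 5), (61, 4), (44, 3), (31, 2), (4, 1), (73, 1), (75, 2), (77, 3), (11, 4), (63, 3), (46, 2), (6, 1), (65, 2), (8, 1), (10, 1)]),
    ([4, 0, 0], [(0, 1), (20, 0), (70, 4), (60, 3), (43, 2), (21, 1), (77, 4), (11, 5), (62, 4), (45, 3), (63, 5), (46, 4), (10, 6)], [(18, 0), (67, 5), (57, 4), (40, 3), (27, 2), (18, 1), (0, 0), (61, 4), (31, 3), (26, 2), (63, 5), (46, 4), (10, 6), (46, 5), (6, 4), (8, 4), (73, 5), (63, 4), (77, 6), (10, 5), (75, 5), (77, 6), (11, 7), (10, 6), (11, 6)]),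
    ([4, 4, 1], [(4, 0), (68, 0)], [(19, 1), (19, 0), (61, 3), (44, 2), (4, 1), (75, 1), (77, 2), (75, 3), (65, 2), (8, 1), (77, 2), (10, 1)]),
    ([4, 1, 1], [(1, 1)], [(19, 0), (58, 3), (41, 2), (19, 1), (1, 0), (71, 5), (61, 4), (52, 3), (44, 2), (37, 1), (31, 0), (77, 5), (11, 6), (65, 5), (56, 4), (8, 3), (10, 4), (56, 3)]),
    ([4, 1, 0], [(19, 0), (57, 3), (40, 2), (18, 1), (12, 0), (37, 6), (31, 5), (26, 4), (63, 7), (46, 6), (64, 8), (47, 7), (63, 9), (46, 8), (39, 7), (6, 6), (75, 7), (77, 8), (75, 9), (65, 8), (8, 7), (77, 8), (10, 7), (11, 7), (77, 9), (10, 8), (11, 8)], [(12, 1), (18, 0), (68, 5), (58, 4), (41, 3), (28, 2), (19, 1), (63, 4), (46, 3), (10, 5), (75, 5), (8, 4), (77, 4), (11, 5), (69, 5), (59, 4), (29, 3), (20, 2), (73, 6), (63, 5), (46, 4), (77, 7), (10, 6), (77, 6), (11, 7), (60, 6),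 (43, 5), (30, 4), (21, 3), (77, 7), (72, 8), (62, 7), (45, 6), (32, 5), (75, 8), (65, 7), (77, 9), (10, 8), (11, 8), (46, 7), (6, 6), (47, 6)]),
    ([4, 4, 2], [(4, 0), (69, 0)], [(20, 1), (20, 0), (71, 4), (61, 3), (44, 2), (4, 1), (75, 1), (77, 2), (11, 3), (65, 2), (8, 1), (10, 1)]),
    ([4, 2, 0], [(20, 0), (67, 4), (57, 3), (40, 2), (18, 1), (13, 0), (52, 5), (37, 4), (31, 3), (4, 2), (73, 2), (74, 3), (76, 4), (11, 5), (54, 4), (39, 3), (6, 2), (76, 3), (75, 4), (56, 3), (77, 5), (11, 6), (65, 5), (56, 4), (8, 3), (10, 4), (77, 4), (11, 5)], [(13, 1), (18, 0), (69, 5), (59, 4), (42, 3), (29, 2), (20, 1), (73, 5), (63, 4), (46, 3), (77, 6), (10, 5), (75, 5), (8, 4), (77, 4), (11, 5), (61, 4), (31, 3), (4, 2), (73, 2), (77, 3), (73, 4), (63, 3), (6, 2), (74, 3), (64, 2), (76, 4), (66, 3)]),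
    ([4, 2, 1], [(20, 0), (68, 4), (58, 3), (41, 2), (19, 1), (14, 0), (52, 4), (37, 3), (4, 2), (74, 2), (76, 3), (11, 4), (56, 3), (65, 5), (56, 4), (8, 3), (10, 4), (11, 4)], [(14, 1), (19, 0), (59, 3), (42, 2), (20, 1), (75, 5), (65, 4), (8, 3), (77, 4), (10, 3), (71, 3), (4, 2), (11, 2)]),
    ([4, 4, 3], [(4, 0), (70, 0)], [(21, 1), (21, 0), (4, 1)]),
    ([4, 3, 3], [(3, 1)], [(21, 0), (21, 1), (3, 0), (71, 1), (31, 0)]),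
    ([4, 3, 0], [(21, 0), (18, 1), (15, 0), (71, 6), (52, 5), (44, 4), (31, 3), (4, 2), (73, 2), (75, 3), (76, 4), (11, 5), (73, 5), (54, 4), (46, 3), (6, 2), (75, 4), (56, 3), (8, 2), (77, 3), (11, 4)], [(15, 1), (18, 0), (70, 5), (60, 4), (43, 3), (30, 2), (21, 1), (77, 5), (11, 6), (61, 5), (44, 4), (31, 3), (4, 2), (73, 2), (75, 3), (77, 4), (73, 5), (63, 4), (46, 3), (6, 2), (75, 4), (65, 3), (8, 2), (76, 3), (66, 2), (11, 4)]),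
    ([4, 3, 1], [(21, 0), (19, 1), (16, 0), (52, 4), (31, 3), (4, 2), (73, 2), (76, 3), (11, 4), (56, 3)], [(16, 1), (19, 0), (60, 3), (43, 2), (21, 1), (77, 4), (71, 5), (61, 4), (44, 3), (4, 2), (75, 2), (77, 3), (11, 4), (63, 3), (46, 2), (66, 4)]),
    ([4, 3, 2], [(21, 0), (20, 1), (17, 0), (71, 6), (61, 5), (52, 4), (44, 3), (31, 2), (77, 6), (11, 7), (65, 6), (56, 5), (8, 4), (10, 5)], [(17, 1), (20, 0), (70, 4), (60, 3), (43, 2), (21, 1), (77, 4), (11, 5), (63, 4), (46, 3), (65, 5), (8, 4), (66, 4), (10, 5)]),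
    ([5, 5, 5], [(5, 0), (72, 2), (62, 1), (45, 0)], [(5, 1)]),
    ([5, 5, 0], [(5, 0), (67, 2), (57, 1), (40, 0), (77, 3), (10, 2), (11, 2)], [(22, 1), (22, 0), (38, 2), (5, 1), (74, 3), (64, 2), (47, 1), (77, 4), (10, 3), (74, 3), (47, 2), (7, 1)]),
    ([5, 0, 0], [(0, 1), (24, 0), (60, 3), (43, 2), (25, 1), (65, 4), (56, 3), (77, 6), (10, 5), (72, 5), (53, 4), (45, 3), (5, 2), (75, 4), (65, 3), (8, 2), (76, 3), (66, 2), (11, 4), (73, 4), (63, 3), (54, 2), (77, 5), (10, 4)], [(22, 0), (33, 2), (22, 1), (0, 0), (62, 4), (32, 3), (5, 2), (73, 4), (63, 3), (46, 2), (77, 5), (10, 4), (11, 4), (64, 4), (47, 3), (64, 5), (47, 4), (7, 3), (65, 4), (8, 3), (66, 3), (10, 4)]),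
    ([5, 5, 1], [(5, 0), (68, 2), (58, 1), (41, 0), (11, 3)], [(23, 1), (23, 0), (72, 5), (53, 4), (38, 3), (32, 2), (5, 1), (73, 3), (63, 2), (46, 1), (77, 4), (10, 3), (11, 3), (47, 2), (66, 4), (11, 6), (63, 5), (54, 4), (46, 3), (39, 2), (6, 1), (75, 2), (76, 3), (77, 4), (74, 5), (64, 4), (55, 3), (47, 2), (7, 1), (76, 4), (66, 3), (9, 2), (11, 3)]),
    ([5, 1, 1], [(1, 1)], [(23, 0), (68, 5), (49, 4), (34, 3), (28, 2), (23, 1), (1, 0), (72, 5), (62, 4), (53, 3), (45, 2), (38, 1), (32, 0), (74, 3), (64, 2), (77, 4), (10, 3), (75, 3), (76, 4), (11, 5), (73, 6), (63, 5), (54, 4), (46, 3), (39, 2), (6, 1), (75, 2), (76, 3), (77, 4), (11, 5), (64, 4), (55, 3), (47, 2), (7, 1), (66, 3), (9, 2), (73, 3), (63, 2), (46, 1), (77, 4), (10, 3), (11, 3), (47, 2), (76, 5), (66, 4), (11, 6)]),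
    ([5, 1, 0], [(23, 0), (67, 5), (48, 4), (33, 3), (27, 2), (22, 1), (12, 0), (38, 6), (32, 5), (5, 4), (73, 6), (63, 5), (46, 4), (77, 7), (10, 6), (11, 6), (47, 5), (64, 7), (47, 6), (7, 5), (63, 6), (46, 5), (6, 4), (10, 5), (47, 4), (8, 5), (76, 7), (66, 6), (9, 5), (77, 6), (10, 5), (11, 5)], [(12, 1), (22, 0), (34, 2), (23, 1), (74, 6), (55, 5), (7, 4), (77, 5), (11, 6), (59, 5), (50, 4), (29, 3), (24, 2), (63, 5), (46, 4), (10, 6), (77, 8), (10, 7), (70, 7), (51, 6), (43, 5), (30, 4), (25, 3), (63, 6), (54, 5), (65, 7), (56, 6), (76, 9), (66, 8), (9, 7), (77, 8), (10, 7), (11, 7), (72, 7), (45, 6), (32, 5), (5, 4), (73, 6), (63, 5), (46, 4), (77, 7), (10, 6), (11, 6), (8, 5), (73, 5), (6, 4), (74, 4)]),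
    ([5, 5, 2], [(5, 0), (69, 2), (59, 1), (42, 0)], [(24, 1), (24, 0), (62, 3), (45, 2), (5, 1), (75, 3), (65, 2), (8, 1), (77, 2), (10, 1), (75, 1), (77, 2)]),
    ([5, 2, 2], [(2, 1)], [(24, 0), (59, 3), (42, 2), (24, 1), (2, 0), (62, 1), (45, 0), (65, 2), (8, 1), (10, 1)]),
    ([5, 2, 0], [(24, 0), (57, 3), (40, 2), (22, 1), (13, 0), (53, 5), (38, 4), (32, 3), (74, 6), (64, 5), (77, 7), (10, 6), (76, 6), (11, 7), (55, 6), (7, 5), (56, 5), (77, 8), (10, 7), (11, 7)], [(13, 1), (22, 0), (35, 2), (24, 1), (64, 4), (47, 3), (65, 5), (8, 4), (71, 5), (61, 4), (37, 3), (26, 2), (64, 5), (47, 4), (10, 6), (73, 6), (46, 5), (39, 4), (75, 6), (11, 7), (47, 6), (7, 5)]),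
    ([5, 2, 1], [(24, 0), (58, 3), (41, 2), (23, 1), (14, 0), (53, 4), (38, 3), (66, 5), (73, 7), (63, 6), (54, 5), (39, 4), (76, 6), (77, 7), (11, 8), (64, 7), (55, 6), (7, 5), (66, 6), (9, 5), (75, 6), (65, 5), (77, 7), (10, 6), (11, 6)], [(14, 1), (23, 0), (69, 5), (50, 4), (35, 3), (29, 2), (24, 1), (63, 4), (46, 3), (10, 5), (47, 4), (8, 5), (76, 5), (77, 6), (11, 7), (71, 7), (61, 6), (52, 5), (37, 4), (31, 3), (26, 2), (63, 5), (46, 4), (64, 6), (47, 5), (66, 7), (77, 9), (10, 8), (11, 8), (55, 7), (47, 6), (7, 5), (9, 6)]),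
    ([5, 5, 3], [(5, 0), (70, 2), (60, 1), (43, 0), (77, 2), (11, 3)], [(25, 1), (25, 0), (62, 3), (53, 2), (5, 1), (76, 3), (66, 2), (11, 4), (10, 3), (9, 2)]),
    ([5, 3, 3], [(3, 1)], [(25, 0), (60, 3), (51, 2), (25, 1), (3, 0), (72, 1), (32, 0), (11, 3), (66, 2), (10, 3), (9, 2), (77, 3), (10, 2)]),
    ([5, 3, 0], [(25, 0), (57, 3), (48, 2), (22, 1), (15, 0), (72, 6), (53, 5), (45, 4), (32, 3), (75, 6), (65, 5), (76, 7), (66, 6), (11, 8), (74, 8), (64, 7), (55, 6), (47, 5), (76, 9), (66, 8), (9, 7), (77, 8), (10, 7), (11, 7)], [(15, 1), (22, 0), (36, 2), (25, 1), (64, 4), (55, 3), (65, 5), (56, 4), (10, 6), (52, 5), (44, 4), (37, 3), (26, 2), (64, 5), (47, 4), (65, 6), (8, 5), (66, 5), (73, 7), (63, 6), (54, 5), (39, 4), (76, 6), (77, 7), (11, 8), (65, 7), (56, 6), (66, 8), (9, 7)]),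
    ([5, 3, 1], [(25, 0), (58, 3), (49, 2), (23, 1), (16, 0), (53, 4), (32, 3), (76, 6), (66, 5), (11, 7), (63, 6), (54, 5), (6, 4), (64, 5), (55, 4), (66, 6), (9, 5), (76, 6), (66, 5), (11, 7), (10, 6)], [(16, 1), (23, 0), (70, 5), (51, 4), (36, 3), (30, 2), (25, 1), (63, 4), (54, 3), (64, 5), (55, 4), (65, 6), (56, 5), (10, 7), (9, 6), (11, 7), (61, 6), (44, 5), (37, 4), (31, 3), (26, 2), (63, 5), (46, 4), (64, 6), (47, 5), (65, 7), (8, 6), (10, 6), (39, 5), (6, 4), (76, 5)]),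
    ([5, 3, 2], [(25, 0), (59, 3), (50, 2), (24, 1), (17, 0), (72, 6), (62, 5), (53, 4), (45, 3), (32, 2), (75, 5), (65, 4), (76, 6), (66, 5), (11, 7), (10, 6), (75, 6), (56, 5), (8, 4), (77, 5), (76, 6), (66, 5), (9, 4), (77, 5), (10, 4), (11, 4)], [(17, 1), (24, 0), (60, 3), (43, 2), (25, 1), (65, 4), (56, 3), (77, 6), (10, 5), (73, 5), (54, 4), (46, 3), (75, 6), (56, 5), (8, 4), (76, 5), (9, 4), (77, 4), (11, 5)]),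
    ([5, 5, 4], [(5, 0), (71, 2), (61, 1), (44, 0)], [(26, 1), (26, 0), (62, 3), (45, 2), (5, 1), (75, 3), (65, 2), (8, 1), (77, 2), (10, 1), (75, 1), (77, 2)]),
    ([5, 4, 0], [(26, 0), (57, 3), (40, 2), (22, 1), (18, 0), (72, 5), (62, 4), (45, 3), (32, 2), (75, 5), (65, 4), (77, 6), (10, 5), (11, 5), (47, 4), (8, 5), (77, 6), (10, 5), (11, 5)], [(18, 1), (22, 0), (37, 2), (26, 1), (64, 4), (47, 3), (63, 5), (46, 4), (39, 3), (75, 5), (77, 6), (75, 7), (65, 6), (8, 5), (77, 6), (10, 5), (11, 5)]),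
    ([5, 4, 1], [(26, 0), (58, 3), (41, 2), (23, 1), (19, 0), (62, 3), (45, 2), (63, 4), (46, 3), (64, 5), (47, 4), (66, 6), (75, 8), (65, 7), (56, 6), (8, 5), (77, 7), (10, 6), (11, 6)], [(19, 1), (23, 0), (71, 5), (52, 4), (37, 3), (31, 2), (26, 1), (63, 4), (46, 3), (64, 5), (47, 4), (66, 6), (11, 8), (65, 7), (56, 6), (8, 5), (10, 6)]),
    ([5, 4, 3], [(26, 0), (60, 3), (43, 2), (25, 1), (21, 0), (65, 4), (56, 3), (77, 6), (10, 5)], [(21, 1), (25, 0), (61, 3), (52, 2), (26, 1), (66, 4), (77, 6), (10, 5)]),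
    ([6, 6, 0], [(6, 0)], [(27, 1), (27, 0), (63, 2), (6, 1), (10, 1)]),
    ([6, 0, 0], [(0, 1), (29, 0), (60, 2), (30, 1), (62, 3), (32, 2), (77, 5), (10, 4), (73, 4), (6, 3), (77, 3)], [(27, 0), (57, 2), (27, 1), (0, 0), (63, 4), (6, 3), (10, 3)]),
    ([6, 1, 0], [(28, 0), (67, 3), (57, 2), (27, 1), (12, 0), (39, 6), (6, 5), (77, 6), (77, 7), (10, 6), (11, 6)], [(12, 1), (27, 0), (58, 2), (28, 1), (77, 4), (10, 3), (11, 3), (29, 2), (60, 4), (30, 3), (62, 5), (32, 4), (77, 7), (10, 6), (73, 6), (6, 5), (74, 5)]),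
    ([6, 2, 2], [(2, 1)], [(29, 0), (59, 2), (29, 1), (2, 0), (63, 1), (46, 0), (10, 2)])]
  fuses := [
    ⟨0, [0, 0], [2, 3, 5, 6, 7, 9, 10], [(22, 1), (0, 0), (62, 4), (32, 3), (5, 2), (73, 4), (63, 3), (46, 2), (77, 5), (10, 4), (11, 4), (64, 4), (47, 3), (62, 5), (45, 4), (38, 3), (32, 2), (74, 5), (64, 4), (77, 6), (10, 5), (75, 5), (77, 6)], [], [(67, 5), (48, 4), (18, 3), (15, 2), (13, 1), (0, 0), (59, 4), (29, 3), (24, 2), (17, 1), (2, 0), (60, 1), (43, 0), (77, 2), (73, 3), (63, 2), (46, 1), (75, 4), (65, 3), (8, 2), (76, 3), (66, 2), (77, 4), (10, 3), (11, 3), (53, 2), (32, 1), (76, 4), (66, 3), (11, 5), (65, 4), (56, 3), (10, 5), (54, 4), (46, 3), (6, 2), (10, 4), (52, 3), (44, 2), (26, 1), (65, 4), (8, 3), (66, 3), (73, 5), (63, 4), (54, 3), (74, 6), (64, 5), (55, 4), (76, 7), (66, 6), (9, 5), (70, 6),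 (60, 5), (36, 4), (30, 3), (25, 2), (21, 1), (3, 0), (71, 1), (31, 0), (72, 2), (32, 1), (11, 4), (66, 3), (10, 4), (54, 3), (6, 2), (55, 2), (56, 3), (10, 5), (71, 5), (52, 4), (44, 3), (37, 2), (26, 1), (4, 0), (72, 0), (75, 1), (77, 2), (74, 3), (64, 2), (47, 1), (75, 4), (65, 3), (8, 2), (76, 3), (66, 2), (11, 4), (73, 4), (63, 3), (54, 2), (39, 1), (76, 3), (77, 4), (11, 5), (65, 4), (56, 3), (66, 5), (9, 4), (71, 5), (61, 4), (44, 3), (37, 2), (31, 1), (26, 0), (63, 3), (46, 2), (64, 4), (47, 3), (65, 5), (8, 4), (10, 4), (73, 4), (39, 3), (6, 2), (11, 3), (76, 5), (66, 4), (77, 6), (10, 5), (11, 5), (69, 5), (50, 4), (42, 3), (35, 2), (24, 1), (20, 0), (72, 4), (62, 3), (45, 2), (75, 5), (65, 4), (8, 3), (77, 4), (10, 3), (74, 3), (75, 4), (11, 5), (8, 4), (11, 6), (60, 5), (51, 4), (36, 3), (25, 2), (21, 1),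 (64, 5), (55, 4), (65, 6), (56, 5), (10, 7), (9, 6), (77, 7), (10, 6), (71, 6), (44, 5), (37, 4), (26, 3), (4, 2), (72, 2), (75, 3), (77, 4), (74, 5), (64, 4), (47, 3), (75, 6), (65, 5), (8, 4), (11, 5), (66, 4)], [(70, 7), (60, 6), (51, 5), (43, 4), (30, 3), (25, 2), (63, 5), (54, 4), (65, 6), (56, 5), (76, 8), (66, 7), (9, 6), (77, 7), (10, 6), (11, 6), (72, 7), (62, 6), (45, 5), (32, 4), (5, 3), (73, 5), (63, 4), (46, 3), (77, 6), (10, 5), (11, 5), (8, 4), (69, 5), (59, 4), (29, 3), (17, 2), (2, 1), (60, 2), (43, 1), (77, 3), (73, 4), (63, 3), (46, 2), (75, 5), (65, 4), (8, 3), (76, 4), (66, 3), (77, 5), (10, 4), (11, 4), (54, 3), (6, 2), (10, 3), (70, 3), (51, 2), (3, 1), (76, 2), (77, 3), (11, 4), (72, 4), (62, 3), (53, 2), (32, 1), (76, 4), (66, 3), (11, 5), (10, 4), (74, 4), (55, 3), (75, 5), (56, 4), (11,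 6), (49, 5), (41, 4), (34, 3), (28, 2), (23, 1), (1, 0), (72, 5), (62, 4), (53, 3), (45, 2), (38, 1), (32, 0), (74, 3), (64, 2), (77, 4), (10, 3), (75, 3), (76, 4), (11, 5), (73, 6), (63, 5), (54, 4), (46, 3), (39, 2), (6, 1), (75, 2), (76, 3), (77, 4), (11, 5), (64, 4), (55, 3), (47, 2), (7, 1), (66, 3), (9, 2), (73, 3), (63, 2), (46, 1), (77, 4), (10, 3), (11, 3), (47, 2), (75, 5), (65, 4), (8, 3), (76, 4), (66, 3), (11, 5), (59, 4), (50, 3), (35, 2), (29, 1), (24, 0), (63, 3), (46, 2), (10, 4), (47, 3), (8, 4), (76, 4), (77, 5), (11, 6), (10, 5), (51, 4), (36, 3), (30, 2), (25, 1), (63, 4), (54, 3), (64, 5), (55, 4), (65, 6), (56, 5), (10, 7), (9, 6), (71, 7), (61, 6), (44, 5), (37, 4), (31, 3), (26, 2), (63, 5), (46, 4), (64, 6), (47, 5), (65, 7), (8, 6), (10, 6), (73, 6), (39, 5), (6, 4), (11, 5), (7, 4), (26,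 3), (4, 2), (72, 2), (75, 3), (77, 4), (73, 5), (63, 4), (46, 3), (74, 6), (64, 5), (47, 4), (77, 7), (10, 6), (11, 6), (46, 5), (39, 4), (6, 3), (75, 4), (75, 5), (8, 4), (76, 4), (77, 5), (11, 6)]⟩,
    ⟨0, [1, 0], [0, 1, 2, 3, 6, 8, 9], [(22, 1), (12, 0), (38, 6), (32, 5), (5, 4), (73, 6), (63, 5), (46, 4), (77, 7), (10, 6), (11, 6), (47, 5), (64, 7), (47, 6), (7, 5), (62, 6), (45, 5), (32, 4), (75, 7), (65, 6), (77, 8), (10, 7)], [(23, 1), (72, 6), (53, 5), (38, 4), (32, 3), (5, 2), (73, 4), (63, 3), (46, 2), (77, 5), (10, 4), (11, 4), (47, 3), (66, 5), (11, 7), (59, 6), (50, 5), (42, 4), (35, 3), (29, 2), (64, 4), (65, 5), (75, 7), (65, 6), (8, 5), (76, 6), (66, 5), (77, 7), (10, 6), (11, 6), (60, 6), (51, 5), (36, 4), (30, 3), (66, 7), (10, 8), (77, 8), (72, 9), (62, 8), (53, 7), (45, 6), (38, 5), (32, 4), (74,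 7), (64, 6), (77, 8), (10, 7), (75, 7), (76, 8), (11, 9), (74, 10), (64, 9), (55, 8), (47, 7), (7, 6), (76, 9), (66, 8), (9, 7), (77, 8), (10, 7)], [(67, 5), (33, 4), (27, 3), (22, 2), (18, 1), (12, 0), (37, 6), (31, 5), (26, 4), (63, 7), (46, 6), (64, 8), (47, 7), (63, 9), (46, 8), (39, 7), (6, 6), (75, 7), (77, 8), (75, 9), (65, 8), (8, 7), (77, 8), (10, 7), (11, 7), (38, 6), (5, 5), (74, 7), (64, 6), (47, 5), (77, 8), (10, 7), (74, 7), (47, 6), (7, 5), (73, 6), (46, 5), (77, 7), (74, 8), (64, 7), (47, 6), (75, 9), (65, 8), (8, 7), (76, 8), (66, 7), (77, 9), (10, 8), (11, 8), (69, 8), (50, 7), (35, 6), (29, 5), (20, 4), (17, 3), (2, 2), (60, 3), (43, 2), (77, 4), (73, 5), (63, 4), (46, 3), (75, 6), (65, 5), (8, 4), (76, 5), (66, 4), (77, 6), (10, 5), (11, 5), (52, 4), (31, 3), (75, 6), (56, 5), (77, 7), (11, 8),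 (63, 7), (54, 6), (46, 5), (6, 4), (10, 6), (55, 5), (47, 4), (56, 6), (8, 5), (76, 6), (9, 5), (77, 5), (11, 6), (70, 6), (60, 5), (36, 4), (21, 3), (3, 2), (71, 3), (31, 2), (74, 4), (75, 5), (77, 6), (77, 7), (10, 6), (11, 6), (44, 5), (37, 4), (31, 3), (4, 2), (73, 2), (74, 3), (75, 4), (76, 5), (11, 6)], [(68, 5), (49, 4), (19, 3), (16, 2), (14, 1), (51, 5), (36, 4), (21, 3), (66, 7), (10, 8), (71, 8), (52, 7), (44, 6), (37, 5), (4, 4), (74, 4), (75, 5), (76, 6), (11, 7), (73, 7), (54, 6), (46, 5), (39, 4), (75, 6), (76, 7), (11, 8), (9, 7), (44, 6), (37, 5), (31, 4), (8, 7), (66, 7), (11, 9), (61, 8), (52, 7), (37, 6), (31, 5), (4, 4), (73, 4), (74, 5), (76, 6), (11, 7), (62, 7), (53, 6), (38, 5), (32, 4), (74, 7), (64, 6), (77, 8), (10, 7), (76, 7), (11, 8), (63, 8), (54, 7), (39, 6), (6, 5), (76, 6), (77,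 7), (74, 8), (64, 7), (55, 6), (7, 5), (11, 7), (58, 6), (49, 5), (23, 4), (16, 3), (14, 2), (1, 1), (69, 6), (59, 5), (50, 4), (42, 3), (35, 2), (29, 1), (64, 3), (65, 4), (75, 6), (65, 5), (8, 4), (76, 5), (66, 4), (77, 6), (10, 5), (11, 5), (71, 6), (61, 5), (52, 4), (37, 3), (31, 2), (77, 6), (11, 7), (64, 6), (55, 5), (7, 4), (66, 5), (9, 4), (60, 4), (30, 3), (21, 2), (61, 5), (31, 4), (4, 3), (73, 3), (77, 4), (73, 5), (63, 4), (6, 3), (76, 4), (66, 3), (72, 5), (62, 4), (53, 3), (77, 5), (11, 6), (63, 5), (54, 4), (64, 6), (55, 5), (66, 7), (9, 6), (76, 7), (66, 6), (11, 8), (10, 7), (69, 7), (50, 6), (35, 5), (29, 4), (24, 3), (17, 2), (2, 1), (60, 2), (43, 1), (77, 3), (73, 4), (63, 3), (46, 2), (75, 5), (65, 4), (8, 3), (76, 4), (66, 3), (77, 5), (10, 4), (11, 4), (53, 3), (32, 2), (76, 5), (66, 4), (11,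 6), (65, 5), (56, 4), (10, 6), (54, 5), (46, 4), (6, 3), (64, 5), (55, 4), (47, 3), (65, 6), (56, 5), (8, 4), (76, 6), (66, 5), (9, 4), (77, 5), (10, 4), (11, 4), (72, 4), (38, 3), (5, 2), (74, 4), (64, 3), (47, 2), (77, 5), (10, 4), (11, 4), (46, 3), (39, 2), (75, 4), (75, 5), (8, 4), (76, 4), (77, 5), (11, 6), (60, 5), (51, 4), (36, 3), (30, 2), (3, 1), (73, 2), (6, 1), (74, 1), (75, 2), (77, 3), (76, 4), (66, 3), (77, 5), (10, 4), (11, 4), (62, 4), (53, 3), (45, 2), (38, 1), (65, 3), (66, 4), (77, 6), (10, 5), (68, 5), (49, 4), (41, 3), (34, 2), (23, 1), (74, 6), (55, 5), (7, 4), (77, 5), (11, 6), (65, 5), (56, 4), (66, 6), (9, 5), (11, 6), (59, 5), (42, 4), (29, 3), (24, 2), (63, 5), (46, 4), (10, 6), (8, 5), (60, 5), (30, 4), (25, 3), (63, 6), (54, 5), (10, 7), (52, 6), (31, 5), (26, 4), (63, 7), (46, 6), (66,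 8), (73, 10), (63, 9), (54, 8), (46, 7), (6, 6), (74, 9), (64, 8), (55, 7), (47, 6), (69, 10), (59, 9), (50, 8), (42, 7), (35, 6), (24, 5), (20, 4), (17, 3), (2, 2), (60, 3), (43, 2), (77, 4), (73, 5), (63, 4), (46, 3), (75, 6), (65, 5), (8, 4), (76, 5), (66, 4), (77, 6), (10, 5), (11, 5), (52, 4), (31, 3), (75, 6), (56, 5), (77, 7), (11, 8), (62, 7), (53, 6), (45, 5), (32, 4), (75, 7), (65, 6), (76, 8), (66, 7), (11, 9), (10, 8), (56, 7), (8, 6), (64, 7), (55, 6), (65, 8), (56, 7), (75, 10), (65, 9), (56, 8), (8, 7), (76, 9), (66, 8), (9, 7), (77, 8), (10, 7), (11, 7), (70, 8), (60, 7), (36, 6), (30, 5), (25, 4), (21, 3), (3, 2), (71, 3), (31, 2), (72, 4), (32, 3), (11, 6), (66, 5), (10, 6), (54, 5), (6, 4), (55, 4), (56, 5), (10, 7), (71, 7), (52, 6), (44, 5), (37, 4), (26, 3), (4, 2), (72, 2), (75, 3), (77, 4),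 (74, 5), (64, 4), (47, 3), (75, 6), (65, 5), (8, 4), (76, 5), (66, 4), (11, 6), (72, 6), (62, 5), (53, 4), (38, 3), (5, 2), (74, 4), (64, 3), (47, 2), (77, 5), (10, 4), (76, 4), (11, 5), (75, 6), (65, 5), (56, 4), (8, 3), (76, 5), (66, 4), (9, 3), (11, 4), (63, 3), (39, 2), (77, 4), (75, 5), (65, 4), (76, 6), (66, 5), (77, 7), (10, 6), (11, 6)]⟩,
    ⟨0, [2, 0], [0, 2, 4, 5, 6, 8], [(13, 0), (53, 5), (38, 4), (32, 3), (74, 6), (64, 5), (77, 7), (10, 6), (76, 6), (11, 7)], [(24, 1), (61, 4), (44, 3), (26, 2), (65, 5), (8, 4), (10, 4)], [(67, 7), (57, 6), (48, 5), (40, 4), (27, 3), (22, 2), (13, 1), (12, 0), (35, 6), (29, 5), (24, 4), (17, 3), (2, 2), (60, 3), (43, 2), (77, 4), (73, 5), (63, 4), (46, 3), (75, 6), (65, 5), (8, 4), (76, 5), (66, 4), (77, 6), (10, 5), (11, 5), (53, 4), (32, 3), (76, 6), (66, 5), (11, 7),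 (65, 6), (56, 5), (10, 7), (54, 6), (46, 5), (6, 4), (64, 6), (55, 5), (47, 4), (65, 7), (56, 6), (8, 5), (71, 7), (61, 6), (52, 5), (37, 4), (26, 3), (64, 6), (47, 5), (66, 7), (77, 9), (10, 8), (11, 8), (54, 7), (46, 6), (39, 5), (75, 7), (76, 8), (74, 9), (55, 8), (47, 7), (7, 6), (76, 8), (9, 7), (72, 7), (45, 6), (32, 5), (5, 4), (73, 6), (63, 5), (46, 4), (77, 7), (10, 6), (11, 6), (8, 5), (74, 5), (73, 6), (39, 5), (6, 4), (11, 5), (65, 5), (10, 6), (76, 6), (77, 7), (11, 8), (10, 7), (11, 7), (50, 6), (42, 5), (35, 4), (20, 3), (17, 2), (71, 8), (61, 7), (52, 6), (44, 5), (31, 4), (77, 8), (11, 9), (65, 8), (56, 7), (8, 6), (10, 7), (74, 7), (55, 6), (75, 8), (56, 7), (11, 9), (56, 8), (8, 7), (9, 7), (70, 8), (60, 7), (36, 6), (30, 5), (21, 4), (3, 3), (71, 4), (31, 3), (73, 5), (6, 4), (74, 4), (75, 5),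 (77, 6), (77, 7), (10, 6), (11, 6), (44, 5), (37, 4), (4, 3), (74, 3), (75, 4), (76, 5), (11, 6)], [(68, 5), (49, 4), (19, 3), (16, 2), (14, 1), (51, 5), (36, 4), (21, 3), (66, 7), (10, 8), (71, 8), (52, 7), (44, 6), (37, 5), (4, 4), (74, 4), (75, 5), (76, 6), (11, 7), (73, 7), (54, 6), (46, 5), (39, 4), (75, 6), (76, 7), (11, 8), (9, 7), (44, 6), (37, 5), (31, 4), (8, 7), (66, 7), (11, 9), (59, 8), (50, 7), (35, 6), (29, 5), (20, 4), (17, 3), (2, 2), (60, 3), (43, 2), (77, 4), (73, 5), (63, 4), (46, 3), (75, 6), (65, 5), (8, 4), (76, 5), (66, 4), (77, 6), (10, 5), (11, 5), (52, 4), (31, 3), (75, 6), (56, 5), (77, 7), (11, 8), (63, 7), (54, 6), (46, 5), (6, 4), (10, 6), (55, 5), (47, 4), (56, 6), (8, 5), (76, 6), (9, 5), (77, 5), (11, 6), (10, 5), (38, 4), (63, 6), (39, 5), (77, 7), (75, 8), (65, 7), (76, 9), (66,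 8), (77, 10), (10, 9), (11, 9), (49, 8), (41, 7), (34, 6), (28, 5), (23, 4), (19, 3), (16, 2), (1, 1), (70, 6), (60, 5), (51, 4), (43, 3), (36, 2), (30, 1), (65, 5), (8, 4), (76, 5), (66, 4), (77, 6), (10, 5), (11, 5), (71, 6), (61, 5), (52, 4), (37, 3), (31, 2), (77, 6), (11, 7), (63, 6), (54, 5), (39, 4), (6, 3), (76, 4), (77, 5), (76, 6), (66, 5), (9, 4), (71, 5), (61, 4), (37, 3), (4, 2), (74, 2), (77, 3), (11, 4), (65, 3), (10, 4), (45, 3), (38, 2), (65, 4), (63, 5), (46, 4), (39, 3), (75, 5), (77, 6), (74, 7), (64, 6), (47, 5), (7, 4), (76, 6), (66, 5), (11, 7), (63, 6), (54, 5), (46, 4), (6, 3), (10, 5), (74, 5), (55, 4), (47, 3), (77, 6), (11, 7), (65, 6), (56, 5), (8, 4), (66, 5), (9, 4), (71, 5), (61, 4), (37, 3), (26, 2), (64, 5), (47, 4), (10, 6), (72, 6), (45, 5), (38, 4), (5, 3), (74, 5), (64, 4), (47,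 3), (77, 6), (10, 5), (75, 5), (8, 4), (11, 4), (59, 4), (35, 3), (20, 2), (17, 1), (71, 7), (61, 6), (52, 5), (44, 4), (31, 3), (77, 7), (11, 8), (65, 7), (56, 6), (8, 5), (10, 6), (74, 6), (55, 5), (75, 7), (56, 6), (11, 8), (60, 8), (51, 7), (43, 6), (36, 5), (30, 4), (21, 3), (3, 2), (71, 3), (31, 2), (73, 4), (6, 3), (74, 3), (75, 4), (77, 5), (75, 6), (65, 5), (8, 4), (11, 5), (66, 4), (10, 5), (77, 5), (72, 6), (62, 5), (53, 4), (38, 3), (66, 5), (77, 7), (10, 6), (11, 6), (55, 5), (7, 4), (56, 4), (68, 6), (49, 5), (41, 4), (23, 3), (19, 2), (14, 1), (52, 5), (37, 4), (4, 3), (74, 3), (76, 4), (11, 5), (56, 4), (62, 6), (53, 5), (45, 4), (38, 3), (65, 5), (66, 6), (77, 8), (10, 7), (73, 7), (54, 6), (46, 5), (39, 4), (75, 6), (76, 7), (11, 8), (55, 7), (47, 6), (7, 5), (9, 6), (75, 6), (8, 5), (76, 5), (11,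 6), (69, 6), (50, 5), (29, 4), (24, 3), (2, 2), (62, 3), (45, 2), (65, 4), (8, 3), (10, 3), (66, 4), (10, 5), (11, 5), (51, 4), (30, 3), (25, 2), (63, 5), (54, 4), (66, 6), (9, 5), (10, 5), (71, 5), (31, 4), (26, 3), (63, 6), (46, 5), (73, 8), (63, 7), (46, 6), (6, 5), (74, 7), (64, 6), (47, 5), (69, 8), (59, 7), (42, 6), (35, 5), (24, 4), (20, 3), (17, 2), (71, 8), (61, 7), (52, 6), (44, 5), (31, 4), (77, 8), (11, 9), (65, 8), (56, 7), (8, 6), (10, 7), (72, 7), (53, 6), (32, 5), (76, 8), (66, 7), (11, 9), (75, 9), (65, 8), (56, 7), (77, 10), (10, 9), (74, 9), (55, 8), (47, 7), (75, 10), (56, 9), (8, 8), (11, 9), (56, 8), (70, 11), (60, 10), (51, 9), (43, 8), (36, 7), (30, 6), (25, 5), (21, 4), (3, 3), (71, 4), (31, 3), (72, 5), (32, 4), (11, 7), (66, 6), (10, 7), (54, 6), (6, 5), (55, 5), (56, 6), (65, 8), (56, 7),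 (8, 6), (76, 8), (66, 7), (9, 6), (77, 7), (10, 6), (11, 6), (71, 7), (61, 6), (37, 5), (26, 4), (4, 3), (72, 3), (75, 4), (77, 5), (74, 6), (64, 5), (47, 4), (77, 7), (10, 6), (11, 6), (45, 5), (38, 4), (5, 3), (74, 5), (64, 4), (47, 3), (77, 6), (10, 5), (75, 5), (8, 4), (75, 4), (76, 5), (11, 6)]⟩,
    ⟨0, [3, 0], [0, 3, 4, 5, 6, 7, 10], [(22, 1), (15, 0), (72, 6), (53, 5), (45, 4), (32, 3), (75, 6), (65, 5), (76, 7), (66, 6), (11, 8), (74, 8), (64, 7), (55, 6), (47, 5), (72, 9), (62, 8), (53, 7), (45, 6), (38, 5), (32, 4), (5, 3), (73, 5), (63, 4), (46, 3), (77, 6), (10, 5), (11, 5), (47, 4), (65, 6), (8, 5), (66, 5), (77, 7), (10, 6), (11, 6)], [(25, 1), (62, 4), (53, 3), (5, 2), (76, 4), (66, 3), (11, 5), (10, 4), (52, 3), (44, 2), (73, 5), (54, 4), (46, 3), (74, 6), (55, 5), (47, 4), (75, 7), (56, 6), (8, 5),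 (11, 6)], [(22, 1), (15, 0), (72, 6), (53, 5), (45, 4), (32, 3), (75, 6), (65, 5), (76, 7), (66, 6), (11, 8), (74, 8), (64, 7), (55, 6), (47, 5), (69, 9), (59, 8), (50, 7), (42, 6), (35, 5), (29, 4), (24, 3), (20, 2), (17, 1), (71, 7), (61, 6), (52, 5), (44, 4), (31, 3), (77, 7), (11, 8), (65, 7), (56, 6), (8, 5), (10, 6), (72, 6), (53, 5), (32, 4), (76, 7), (66, 6), (11, 8), (75, 8), (65, 7), (56, 6), (77, 9), (10, 8), (73, 8), (54, 7), (46, 6), (6, 5), (77, 7), (74, 8), (64, 7), (55, 6), (47, 5), (75, 9), (65, 8), (56, 7), (8, 6), (11, 8), (65, 7), (56, 6), (66, 8), (9, 7), (10, 7), (77, 7), (11, 8), (60, 7), (43, 6), (36, 5), (25, 4), (21, 3), (3, 2), (71, 3), (31, 2), (72, 4), (32, 3), (11, 6), (66, 5), (10, 6), (55, 5), (56, 6), (65, 8), (56, 7), (8, 6), (77, 8), (10, 7), (71, 7), (52, 6), (37, 5), (31, 4), (26,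 3), (4, 2), (72, 2), (75, 3), (77, 4), (73, 5), (63, 4), (46, 3), (74, 6), (64, 5), (47, 4), (76, 7), (66, 6), (11, 8), (76, 8), (66, 7), (9, 6), (11, 7)], [(70, 5), (51, 4), (21, 3), (3, 2), (71, 3), (31, 2), (76, 4), (77, 5), (11, 6), (72, 6), (62, 5), (53, 4), (32, 3), (76, 6), (66, 5), (11, 7), (10, 6), (68, 6), (49, 5), (28, 4), (23, 3), (19, 2), (14, 1), (52, 5), (37, 4), (4, 3), (74, 3), (76, 4), (11, 5), (56, 4), (62, 6), (53, 5), (45, 4), (38, 3), (65, 5), (66, 6), (77, 8), (10, 7), (73, 7), (54, 6), (46, 5), (39, 4), (75, 6), (76, 7), (11, 8), (55, 7), (47, 6), (7, 5), (9, 6), (73, 6), (46, 5), (6, 4), (77, 5), (11, 6), (66, 5), (11, 7), (61, 6), (52, 5), (44, 4), (26, 3), (65, 6), (8, 5), (66, 5), (77, 7), (10, 6), (72, 6), (53, 5), (5, 4), (76, 6), (66, 5), (11, 7), (77, 7), (10, 6), (69, 6), (50, 5),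 (42, 4), (20, 3), (2, 2), (61, 3), (44, 2), (65, 4), (8, 3), (10, 3), (75, 3), (76, 4), (77, 5), (11, 6), (70, 6), (60, 5), (51, 4), (43, 3), (21, 2), (76, 5), (77, 6), (11, 7), (10, 6), (72, 6), (53, 5), (45, 4), (11, 7), (55, 6), (47, 5), (56, 7), (8, 6), (68, 7), (49, 6), (34, 5), (23, 4), (19, 3), (16, 2), (1, 1), (70, 6), (60, 5), (51, 4), (43, 3), (36, 2), (30, 1), (65, 5), (8, 4), (76, 5), (66, 4), (77, 6), (10, 5), (11, 5), (71, 6), (61, 5), (52, 4), (37, 3), (31, 2), (77, 6), (11, 7), (63, 6), (54, 5), (39, 4), (6, 3), (76, 4), (77, 5), (76, 6), (66, 5), (9, 4), (71, 5), (61, 4), (37, 3), (4, 2), (74, 2), (77, 3), (11, 4), (65, 3), (10, 4), (45, 3), (38, 2), (65, 4), (63, 5), (46, 4), (39, 3), (75, 5), (77, 6), (74, 7), (64, 6), (47, 5), (7, 4), (76, 6), (66, 5), (11, 7), (64, 6), (55, 5), (47, 4), (10, 7),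 (76, 7), (9, 6), (11, 6), (69, 6), (42, 5), (35, 4), (29, 3), (24, 2), (17, 1), (72, 7), (62, 6), (53, 5), (45, 4), (32, 3), (75, 6), (65, 5), (76, 7), (66, 6), (11, 8), (10, 7), (75, 7), (56, 6), (8, 5), (77, 6), (73, 7), (63, 6), (54, 5), (6, 4), (77, 6), (10, 5), (74, 5), (55, 4), (75, 6), (56, 5), (11, 7), (56, 6), (8, 5), (70, 6), (51, 5), (36, 4), (25, 3), (3, 2), (72, 3), (32, 2), (11, 5), (66, 4), (10, 5), (55, 4), (56, 5), (66, 7), (9, 6), (10, 6), (11, 6), (44, 5), (37, 4), (31, 3), (26, 2), (63, 5), (46, 4), (64, 6), (47, 5), (65, 7), (8, 6), (63, 6), (39, 5), (6, 4), (77, 5), (74, 6), (64, 5), (7, 4), (71, 5), (61, 4), (26, 3), (4, 2), (72, 2), (75, 3), (77, 4), (77, 5), (10, 4), (11, 4), (46, 3), (47, 4), (11, 7)]⟩,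
    ⟨0, [4, 0], [0, 4, 5, 9], [(18, 0), (72, 5), (62, 4), (45, 3), (32, 2), (75, 5), (65, 4), (77, 6), (10, 5), (11, 5)], [(26, 1), (63, 4), (46, 3), (10, 5)], [(57, 3), (22, 2), (18, 1), (12, 0), (37, 6), (31, 5), (26, 4), (63, 7), (46, 6), (64, 8), (47, 7), (63, 9), (46, 8), (39, 7), (6, 6), (75, 7), (77, 8), (75, 9), (65, 8), (8, 7), (77, 8), (10, 7), (11, 7), (38, 6), (5, 5), (74, 7), (64, 6), (47, 5), (77, 8), (10, 7), (74, 7), (47, 6), (7, 5), (77, 6), (11, 7), (59, 6), (42, 5), (20, 4), (17, 3), (2, 2), (60, 3), (43, 2), (77, 4), (73, 5), (63, 4), (46, 3), (75, 6), (65, 5), (8, 4), (76, 5), (66, 4), (77, 6), (10, 5), (11, 5), (52, 4), (31, 3), (75, 6), (56, 5), (77, 7), (11, 8), (65, 7), (56, 6), (8, 5), (10, 6), (51, 5), (30, 4), (21, 3), (3, 2), (71, 3), (31, 2), (73, 4), (6, 3), (76, 3), (77, 4), (11, 5),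 (61, 4), (52, 3), (4, 2), (76, 2), (11, 3), (66, 3), (9, 2)], [(68, 5), (49, 4), (19, 3), (16, 2), (14, 1), (51, 5), (36, 4), (21, 3), (66, 7), (10, 8), (71, 8), (52, 7), (44, 6), (37, 5), (4, 4), (74, 4), (75, 5), (76, 6), (11, 7), (73, 7), (54, 6), (46, 5), (39, 4), (75, 6), (76, 7), (11, 8), (9, 7), (44, 6), (37, 5), (31, 4), (8, 7), (66, 7), (11, 9), (61, 8), (52, 7), (37, 6), (31, 5), (4, 4), (73, 4), (74, 5), (76, 6), (11, 7), (62, 7), (53, 6), (38, 5), (32, 4), (74, 7), (64, 6), (77, 8), (10, 7), (76, 7), (11, 8), (10, 8), (50, 7), (35, 6), (29, 5), (24, 4), (17, 3), (2, 2), (60, 3), (43, 2), (77, 4), (73, 5), (63, 4), (46, 3), (75, 6), (65, 5), (8, 4), (76, 5), (66, 4), (77, 6), (10, 5), (11, 5), (53, 4), (32, 3), (76, 6), (66, 5), (11, 7), (65, 6), (56, 5), (10, 7), (54, 6), (46, 5), (6, 4), (64, 6), (55,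 5), (47, 4), (65, 7), (56, 6), (8, 5), (76, 7), (66, 6), (9, 5), (77, 6), (10, 5), (11, 5), (36, 4), (25, 3), (3, 2), (72, 3), (32, 2), (11, 5), (66, 4), (10, 5), (55, 4), (56, 5), (62, 7), (53, 6), (45, 5), (38, 4), (32, 3), (5, 2), (73, 4), (63, 3), (46, 2), (77, 5), (10, 4), (11, 4), (47, 3), (65, 5), (8, 4), (66, 4), (77, 6), (10, 5), (74, 5), (55, 4), (7, 3), (75, 4), (56, 3), (11, 5), (54, 4), (46, 3), (6, 2), (56, 3), (8, 2), (9, 2)]⟩,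
    ⟨0, [5, 0], [0, 5, 10], [(27, 0), (62, 2), (32, 1), (77, 4), (10, 3)], [], [(67, 5), (40, 4), (33, 3), (22, 2), (15, 1), (13, 0), (51, 5), (36, 4), (30, 3), (21, 2), (66, 7), (10, 8), (71, 8), (52, 7), (44, 6), (37, 5), (31, 4), (4, 3), (73, 3), (74, 4), (75, 5), (76, 6), (11, 7), (73, 7), (54, 6), (46, 5), (39, 4), (6, 3), (75, 4), (76, 5), (11, 6), (56, 5), (8, 4), (9, 4), (72, 4), (38, 3), (74, 6), (64, 5), (7, 4), (74, 5), (64, 4), (75, 6), (65, 5), (76, 7), (66, 6), (77, 8), (10, 7), (11, 7), (56, 6), (8, 5), (11, 7), (59, 6), (50, 5), (35, 4), (24, 3), (17, 2), (2, 1), (60, 2), (43, 1), (77, 3), (73, 4), (63, 3), (46, 2), (75, 5), (65, 4), (8, 3), (76, 4), (66, 3), (77, 5), (10, 4), (11, 4), (53, 3), (32, 2), (76, 5), (66, 4), (11, 6), (65, 5), (56, 4), (10, 6), (55, 5), (47, 4), (56, 6), (8, 5), (76, 6),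 (9, 5), (77, 5), (11, 6), (10, 5), (36, 4), (30, 3), (25, 2), (3, 1), (72, 2), (32, 1), (11, 4), (66, 3), (10, 4), (54, 3), (6, 2), (55, 2), (56, 3), (61, 5), (52, 4), (44, 3), (37, 2), (26, 1), (64, 4), (47, 3), (65, 5), (8, 4), (66, 4), (77, 6), (10, 5), (76, 5), (9, 4), (11, 4)], [(69, 5), (50, 4), (20, 3), (17, 2), (2, 1), (60, 2), (43, 1), (77, 3), (73, 4), (63, 3), (46, 2), (75, 5), (65, 4), (8, 3), (76, 4), (66, 3), (77, 5), (10, 4), (11, 4), (52, 3), (31, 2), (75, 5), (56, 4), (77, 6), (11, 7), (66, 6), (9, 5), (10, 5), (11, 5), (43, 4), (30, 3), (21, 2), (3, 1), (71, 2), (31, 1), (73, 3), (6, 2), (75, 2), (11, 3), (45, 2), (47, 3), (8, 4), (11, 4)]⟩,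
    ⟨0, [7, 0], [0, 7, 9, 10], [(40, 0), (72, 3), (62, 2), (45, 1)], [], [(67, 4), (57, 3), (33, 2), (27, 1), (18, 0), (73, 5), (63, 4), (46, 3), (6, 2), (77, 4), (10, 3), (74, 3), (47, 2), (75, 4), (8, 3), (76, 3), (77, 4), (11, 5), (10, 4), (11, 4), (50, 3), (35, 2), (20, 1), (74, 5), (64, 4), (47, 3), (75, 6), (65, 5), (8, 4), (11, 5), (66, 4), (10, 5), (70, 5), (51, 4), (36, 3), (21, 2), (66, 6), (10, 7), (11, 7), (52, 6), (44, 5), (37, 4), (4, 3), (74, 3), (75, 4), (76, 5), (11, 6), (9, 5)], [(71, 5), (52, 4), (4, 3), (76, 3), (11, 4), (73, 4), (54, 3), (74, 5), (55, 4), (77, 6), (11, 7), (63, 6), (54, 5), (39, 4), (6, 3), (76, 4), (77, 5), (75, 6), (65, 5), (56, 4), (76, 7), (66, 6), (9, 5), (77, 6), (10, 5), (11, 5)]⟩,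
    ⟨0, [1, 1], [], [(23, 1), (1, 0), (72, 5), (62, 4), (53, 3), (45, 2), (38, 1), (32, 0), (74, 3), (64, 2), (77, 4), (10, 3), (75, 3), (76, 4), (11, 5), (73, 6), (63, 5), (54, 4), (46, 3), (39, 2), (6, 1), (75, 2), (76, 3), (77, 4), (11, 5), (64, 4), (55, 3), (47, 2), (7, 1), (66, 3), (9, 2), (72, 3), (62, 2), (45, 1), (5, 0), (75, 2), (65, 1), (8, 0), (77, 1), (10, 0), (11, 0)], [], [(68, 5), (34, 4), (28, 3), (23, 2), (19, 1), (1, 0), (71, 5), (61, 4), (52, 3), (44, 2), (37, 1), (31, 0), (77, 5), (11, 6), (65, 5), (56, 4), (8, 3), (10, 4), (53, 3), (38, 2), (32, 1), (74, 4), (64, 3), (77, 5), (10, 4), (76, 4), (11, 5), (54, 4), (39, 3), (6, 2), (76, 3), (74, 4), (55, 3), (7, 2), (76, 3), (9, 2), (11, 2), (74, 4), (64, 3), (77, 5), (10, 4), (11, 4), (71, 4), (37, 3), (31, 2), (26, 1), (4, 0), (72, 0), (75, 1),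 (77, 2), (73, 3), (63, 2), (46, 1), (74, 4), (64, 3), (47, 2), (11, 5), (62, 4), (45, 3), (38, 2), (32, 1), (5, 0), (73, 2), (63, 1), (46, 0), (77, 3), (10, 2), (11, 2), (47, 1), (65, 3), (8, 2), (10, 2), (39, 1), (6, 0), (74, 1), (7, 0), (11, 0)], []⟩,
    ⟨0, [3, 1], [1, 3, 4, 6, 8, 9, 10], [(23, 1), (16, 0), (53, 4), (32, 3), (76, 6), (66, 5), (11, 7), (63, 6), (54, 5), (6, 4), (64, 5), (55, 4), (66, 6), (9, 5), (72, 6), (62, 5), (38, 4), (5, 3), (74, 5), (64, 4), (47, 3), (77, 6), (10, 5), (77, 5), (11, 6)], [(25, 1), (62, 4), (53, 3), (5, 2), (76, 4), (66, 3), (11, 5), (10, 4), (52, 3), (44, 2), (74, 5), (55, 4), (47, 3), (76, 6), (9, 5), (77, 5), (11, 6)], [(23, 1), (16, 0), (53, 4), (32, 3), (76, 6), (66, 5), (11, 7), (63, 6), (54, 5), (6, 4), (64, 5), (55, 4), (66, 6), (9, 5), (71, 6), (61, 5), (37, 4), (26,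 3), (4, 2), (72, 2), (75, 3), (77, 4), (74, 5), (64, 4), (47, 3), (77, 6), (10, 5), (11, 5), (45, 4), (38, 3), (5, 2), (74, 4), (64, 3), (47, 2), (77, 5), (10, 4), (75, 4), (8, 3), (73, 3), (39, 2), (11, 4), (7, 3)], [(70, 5), (36, 4), (30, 3), (25, 2), (21, 1), (63, 5), (54, 4), (64, 6), (55, 5), (65, 7), (56, 6), (10, 8), (72, 8), (53, 7), (45, 6), (38, 5), (32, 4), (5, 3), (73, 5), (63, 4), (46, 3), (77, 6), (10, 5), (11, 5), (47, 4), (65, 6), (8, 5), (66, 5), (11, 7), (58, 6), (49, 5), (34, 4), (28, 3), (19, 2), (16, 1), (1, 0), (70, 5), (60, 4), (51, 3), (43, 2), (36, 1), (30, 0), (65, 4), (8, 3), (76, 4), (66, 3), (77, 5), (10, 4), (11, 4), (71, 5), (61, 4), (52, 3), (37, 2), (31, 1), (77, 5), (11, 6), (63, 5), (54, 4), (39, 3), (6, 2), (76, 3), (77, 4), (76, 5), (66, 4), (9, 3), (71, 4), (61, 3), (37, 2), (4,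 1), (74, 1), (77, 2), (11, 3), (65, 2), (10, 3), (46, 2), (39, 1), (75, 3), (77, 4), (11, 5), (64, 4), (47, 3), (7, 2), (10, 3), (76, 3), (11, 4), (71, 5), (61, 4), (52, 3), (44, 2), (31, 1), (77, 5), (11, 6), (62, 5), (53, 4), (45, 3), (32, 2), (75, 5), (65, 4), (76, 6), (66, 5), (11, 7), (10, 6), (58, 6), (49, 5), (41, 4), (28, 3), (23, 2), (19, 1), (16, 0), (52, 4), (31, 3), (4, 2), (73, 2), (76, 3), (11, 4), (56, 3), (62, 5), (53, 4), (45, 3), (32, 2), (75, 5), (65, 4), (76, 6), (66, 5), (11, 7), (10, 6), (54, 5), (46, 4), (6, 3), (55, 4), (47, 3), (9, 5), (73, 5), (46, 4), (39, 3), (75, 5), (11, 6), (75, 7), (65, 6), (8, 5), (76, 6), (66, 5), (11, 7), (10, 6), (69, 6), (50, 5), (35, 4), (29, 3), (24, 2), (17, 1), (72, 7), (62, 6), (53, 5), (45, 4), (32, 3), (75, 6), (65, 5), (76, 7), (66, 6), (11, 8), (10, 7),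 (75, 7), (56, 6), (8, 5), (77, 6), (73, 7), (63, 6), (54, 5), (6, 4), (77, 6), (10, 5), (74, 5), (55, 4), (75, 6), (56, 5), (11, 7), (9, 6), (11, 7), (60, 6), (43, 5), (36, 4), (25, 3), (3, 2), (72, 3), (32, 2), (11, 5), (66, 4), (10, 5), (55, 4), (56, 5), (65, 7), (56, 6), (8, 5), (77, 7), (10, 6), (71, 6), (52, 5), (37, 4), (31, 3), (26, 2), (63, 5), (46, 4), (64, 6), (47, 5), (66, 7), (11, 9), (63, 8), (54, 7), (46, 6), (39, 5), (6, 4), (75, 5), (76, 6), (77, 7), (74, 8), (64, 7), (55, 6), (47, 5), (7, 4), (69, 7), (59, 6), (50, 5), (42, 4), (24, 3), (20, 2), (2, 1), (61, 2), (44, 1), (65, 3), (8, 2), (10, 2), (72, 2), (75, 3), (77, 4), (75, 5), (65, 4), (8, 3), (76, 4), (66, 3), (77, 5), (10, 4), (11, 4), (70, 5), (60, 4), (51, 3), (25, 2), (21, 1), (66, 5), (9, 4), (10, 4), (77, 4), (11, 5), (61, 4), (26, 3),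 (4, 2), (72, 2), (75, 3), (77, 4), (77, 5), (10, 4), (72, 4), (45, 3), (5, 2), (75, 4), (65, 3), (8, 2), (11, 3), (65, 2), (66, 3), (73, 5), (63, 4), (54, 3), (46, 2), (75, 6), (65, 5), (56, 4), (8, 3), (76, 5), (66, 4), (9, 3), (77, 4), (10, 3), (11, 3)]⟩,
    ⟨0, [2, 2], [7, 9], [(2, 0)], [], [(68, 7), (58, 6), (49, 5), (41, 4), (28, 3), (23, 2), (14, 1), (1, 0), (69, 5), (59, 4), (50, 3), (42, 2), (35, 1), (29, 0), (64, 2), (65, 3), (75, 5), (65, 4), (8, 3), (76, 4), (66, 3), (77, 5), (10, 4), (11, 4), (71, 5), (61, 4), (52, 3), (37, 2), (31, 1), (77, 5), (11, 6), (64, 5), (55, 4), (7, 3), (66, 4), (9, 3), (62, 3), (32, 2), (77, 5), (10, 4), (73, 4), (6, 3), (74, 3), (76, 4), (11, 5), (54, 4), (39, 3), (76, 5), (77, 6), (11, 7), (65, 6), (56, 5), (66, 7), (9, 6), (77, 7), (10, 6), (11, 6), (69, 6), (42, 5), (35,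 4), (29, 3), (24, 2), (20, 1), (2, 0), (61, 1), (44, 0), (65, 2), (8, 1), (10, 1), (72, 1), (75, 2), (77, 3), (73, 4), (63, 3), (46, 2), (77, 5), (10, 4), (74, 4), (47, 3), (75, 5), (8, 4), (11, 4), (72, 5), (45, 4), (38, 3), (32, 2), (5, 1), (73, 3), (63, 2), (46, 1), (77, 4), (10, 3), (11, 3), (47, 2), (65, 4), (8, 3), (73, 4), (63, 3), (39, 2), (6, 1), (77, 2), (11, 3), (65, 2), (66, 3), (10, 4)], [(73, 4), (63, 3), (39, 2), (6, 1), (77, 2), (11, 3), (65, 2), (66, 3), (10, 4)]⟩,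
    ⟨0, [3, 2], [2, 3, 5, 8, 9, 10], [(24, 1), (17, 0), (72, 6), (62, 5), (53, 4), (45, 3), (32, 2), (75, 5), (65, 4), (76, 6), (66, 5), (11, 7), (10, 6), (75, 6), (56, 5), (8, 4), (77, 5)], [], [(23, 1), (16, 0), (53, 4), (32, 3), (76, 6), (66, 5), (11, 7), (63, 6), (54, 5), (6, 4), (64, 5), (55, 4), (66, 6), (9, 5), (69, 6), (59, 5), (35, 4), (24, 3), (20, 2), (17, 1), (71, 7), (61, 6), (52, 5), (44, 4), (31, 3), (77, 7), (11, 8), (65, 7), (56, 6), (8, 5), (10, 6), (72, 6), (53, 5), (32, 4), (76, 7), (66, 6), (11, 8), (75, 8), (65, 7), (56, 6), (77, 9), (10, 8), (74, 8), (55, 7), (47, 6), (75, 9), (56, 8), (8, 7), (11, 8), (72, 9), (62, 8), (53, 7), (38, 6), (32, 5), (5, 4), (73, 6), (63, 5), (46, 4), (77, 7), (10, 6), (11, 6), (47, 5), (66, 7), (77, 9), (10, 8), (11, 8), (54, 7), (46, 6), (39, 5), (6, 4), (75,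 5), (76, 6), (75, 7), (56, 6), (8, 5), (76, 6), (9, 5), (77, 5), (11, 6)], [(70, 7), (60, 6), (51, 5), (43, 4), (30, 3), (25, 2), (63, 5), (54, 4), (65, 6), (56, 5), (76, 8), (66, 7), (9, 6), (77, 7), (10, 6), (11, 6), (72, 7), (62, 6), (45, 5), (32, 4), (5, 3), (73, 5), (63, 4), (46, 3), (77, 6), (10, 5), (11, 5), (8, 4), (69, 5), (59, 4), (29, 3), (17, 2), (2, 1), (60, 2), (43, 1), (77, 3), (73, 4), (63, 3), (46, 2), (75, 5), (65, 4), (8, 3), (76, 4), (66, 3), (77, 5), (10, 4), (11, 4), (54, 3), (6, 2), (10, 3), (70, 3), (51, 2), (3, 1), (76, 2), (77, 3), (11, 4), (72, 4), (62, 3), (53, 2), (32, 1), (76, 4), (66, 3), (11, 5), (10, 4), (74, 4), (55, 3), (75, 5), (56, 4), (11, 6), (50, 5), (42, 4), (35, 3), (29, 2), (24, 1), (63, 4), (46, 3), (10, 5), (47, 4), (8, 5), (75, 5), (76, 6), (77, 7), (11, 8), (60, 7), (51,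 6), (43, 5), (36, 4), (30, 3), (25, 2), (63, 5), (54, 4), (64, 6), (55, 5), (65, 7), (56, 6), (10, 8), (56, 7), (8, 6), (76, 7), (9, 6), (77, 6), (11, 7), (10, 6), (37, 5), (31, 4), (26, 3), (63, 6), (46, 5), (64, 7), (47, 6), (62, 8), (45, 7), (38, 6), (32, 5), (5, 4), (73, 6), (63, 5), (46, 4), (77, 7), (10, 6), (11, 6), (47, 5), (65, 7), (8, 6), (10, 6), (73, 8), (54, 7), (46, 6), (39, 5), (6, 4), (75, 5), (76, 6), (11, 7), (56, 6), (8, 5), (9, 5), (11, 6)]⟩,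
    ⟨1, [0, 0], [4, 5, 6], [(33, 2), (12, 1), (0, 0), (58, 4), (28, 3), (23, 2), (16, 1), (14, 0), (51, 4), (36, 3), (21, 2), (66, 6), (10, 7), (71, 7), (52, 6), (44, 5), (37, 4), (4, 3), (74, 3), (75, 4), (76, 5), (11, 6), (73, 6), (54, 5), (46, 4), (39, 3), (75, 5), (76, 6), (11, 7), (9, 6), (45, 5), (38, 4), (32, 3), (74, 6), (64, 5), (77, 7), (10, 6), (75, 6), (73, 7), (46, 6), (39, 5), (6, 4), (75, 5), (11, 6), (47, 5), (7, 4), (73, 6), (54, 5), (46, 4), (77, 7), (11, 8), (10, 7), (69, 7), (50, 6), (42, 5), (29, 4), (24, 3), (17, 2), (2, 1), (60, 2), (43, 1), (77, 3), (73, 4), (63, 3), (46, 2), (75, 5), (65, 4), (8, 3), (76, 4), (66, 3), (77, 5), (10, 4), (11, 4), (53, 3), (32, 2), (76, 5), (66, 4), (11, 6), (65, 5), (56, 4), (10, 6), (54, 5), (46, 4), (6, 3), (65, 5), (56, 4), (8, 3), (66, 4), (9, 3), (10, 3),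 (11, 3), (25, 2), (3, 1), (72, 2), (32, 1), (11, 4), (66, 3), (10, 4), (53, 3), (32, 2), (5, 1), (73, 3), (63, 2), (46, 1), (77, 4), (10, 3), (11, 3), (73, 4), (54, 3), (46, 2), (6, 1), (74, 3), (55, 2), (47, 1), (74, 4), (55, 3), (47, 2), (7, 1), (75, 3), (56, 2), (8, 1), (76, 2), (9, 1), (77, 1), (11, 2), (58, 1), (1, 0), (77, 5), (10, 4), (11, 4), (55, 3), (47, 2), (7, 1)], [], [(71, 5), (61, 4), (52, 3), (37, 2), (31, 1), (4, 0), (73, 0), (74, 1), (76, 2), (11, 3), (73, 4), (63, 3), (54, 2), (39, 1), (6, 0), (76, 1), (77, 2), (11, 3), (64, 2), (55, 1), (7, 0), (66, 1), (9, 0), (10, 0)], [(59, 5), (42, 4), (29, 3), (20, 2), (73, 6), (63, 5), (46, 4), (77, 7), (10, 6), (75, 6), (8, 5), (77, 5), (71, 6), (61, 5), (31, 4), (4, 3), (73, 3), (77, 4), (11, 5), (10, 4), (27, 3), (13, 2), (12, 1), (0, 0), (58, 4), (28,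 3), (23, 2), (16, 1), (14, 0), (51, 4), (36, 3), (21, 2), (66, 6), (10, 7), (71, 7), (52, 6), (44, 5), (37, 4), (4, 3), (74, 3), (75, 4), (76, 5), (11, 6), (73, 6), (54, 5), (46, 4), (39, 3), (75, 5), (76, 6), (11, 7), (9, 6), (45, 5), (38, 4), (32, 3), (74, 6), (64, 5), (77, 7), (10, 6), (75, 6), (73, 7), (46, 6), (39, 5), (6, 4), (75, 5), (11, 6), (47, 5), (7, 4), (73, 6), (54, 5), (46, 4), (77, 7), (11, 8), (10, 7), (69, 7), (50, 6), (42, 5), (29, 4), (24, 3), (17, 2), (2, 1), (60, 2), (43, 1), (77, 3), (73, 4), (63, 3), (46, 2), (75, 5), (65, 4), (8, 3), (76, 4), (66, 3), (77, 5), (10, 4), (11, 4), (53, 3), (32, 2), (76, 5), (66, 4), (11, 6), (65, 5), (56, 4), (10, 6), (54, 5), (46, 4), (6, 3), (65, 5), (56, 4), (8, 3), (66, 4), (9, 3), (10, 3), (11, 3), (25, 2), (3, 1), (72, 2), (32, 1), (11, 4), (66, 3), (10,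 4), (53, 3), (32, 2), (5, 1), (73, 3), (63, 2), (46, 1), (77, 4), (10, 3), (11, 3), (73, 4), (54, 3), (46, 2), (6, 1), (74, 3), (55, 2), (47, 1), (69, 4), (50, 3), (42, 2), (35, 1), (75, 4), (8, 3), (76, 3), (77, 4), (11, 5), (71, 5), (61, 4), (52, 3), (37, 2), (77, 5), (11, 6), (63, 5), (54, 4), (39, 3), (76, 5), (77, 6), (74, 7), (64, 6), (55, 5), (7, 4), (76, 6), (66, 5), (9, 4), (73, 5), (63, 4), (6, 3), (77, 4), (10, 3), (68, 3), (19, 2), (14, 1), (1, 0), (69, 5), (59, 4), (50, 3), (42, 2), (35, 1), (29, 0), (64, 2), (65, 3), (75, 5), (65, 4), (8, 3), (76, 4), (66, 3), (77, 5), (10, 4), (11, 4), (71, 5), (61, 4), (52, 3), (37, 2), (31, 1), (77, 5), (11, 6), (64, 5), (55, 4), (7, 3), (66, 4), (9, 3), (61, 3), (31, 2), (4, 1), (73, 1), (77, 2), (75, 3), (65, 2), (77, 4), (10, 3), (11, 3), (42, 2), (29, 1), (2,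 0), (63, 1), (46, 0), (10, 2), (8, 1), (6, 0)]⟩,
    ⟨1, [1, 0], [0, 1, 4, 5, 6, 7, 8], [(33, 1), (13, 0), (55, 5), (7, 4), (56, 4), (9, 5), (68, 6), (58, 5), (41, 4), (28, 3), (19, 2), (14, 1), (52, 5), (37, 4), (4, 3), (74, 3), (76, 4), (11, 5), (56, 4), (63, 6), (54, 5), (46, 4), (39, 3), (75, 5), (76, 6), (77, 7), (77, 8), (10, 7), (11, 7), (56, 6), (8, 5), (11, 7), (64, 6), (55, 5), (7, 4)], [(35, 2), (74, 5), (47, 4), (7, 3), (73, 4), (46, 3), (75, 5), (8, 4), (76, 4), (77, 5), (11, 6)], [(71, 8), (52, 7), (44, 6), (37, 5), (31, 4), (4, 3), (73, 3), (74, 4), (75, 5), (76, 6), (11, 7), (73, 7), (54, 6), (46, 5), (39, 4), (6, 3), (75, 4), (76, 5), (11, 6), (55, 5), (47, 4), (7, 3), (9, 4)], [(67, 5), (57, 4), (48, 3), (33, 2), (27, 1), (18, 0), (73, 5), (63, 4), (46, 3), (6, 2), (77, 4), (10, 3), (74, 3), (47,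 2), (75, 4), (8, 3), (76, 3), (77, 4), (11, 5), (66, 4), (9, 3), (10, 3), (77, 3), (11, 4), (68, 4), (58, 3), (34, 2), (19, 1), (64, 4), (47, 3), (10, 5), (77, 5), (11, 6), (69, 6), (59, 5), (42, 4), (35, 3), (20, 2), (74, 6), (64, 5), (47, 4), (75, 7), (65, 6), (8, 5), (11, 6), (65, 5), (10, 6), (71, 6), (44, 5), (37, 4), (4, 3), (74, 3), (75, 4), (11, 5), (46, 4), (39, 3), (75, 5), (74, 6), (47, 5), (7, 4), (75, 5), (8, 4), (76, 4), (11, 5), (48, 4), (27, 3), (13, 2), (12, 1), (0, 0), (58, 4), (28, 3), (23, 2), (16, 1), (14, 0), (51, 4), (36, 3), (21, 2), (66, 6), (10, 7), (71, 7), (52, 6), (44, 5), (37, 4), (4, 3), (74, 3), (75, 4), (76, 5), (11, 6), (73, 6), (54, 5), (46, 4), (39, 3), (75, 5), (76, 6), (11, 7), (9, 6), (45, 5), (38, 4), (32, 3), (74, 6), (64, 5), (77, 7), (10, 6), (75, 6), (73, 7), (46, 6), (39,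 5), (6, 4), (75, 5), (11, 6), (47, 5), (7, 4), (73, 6), (54, 5), (46, 4), (77, 7), (11, 8), (10, 7), (69, 7), (50, 6), (42, 5), (29, 4), (24, 3), (17, 2), (2, 1), (60, 2), (43, 1), (77, 3), (73, 4), (63, 3), (46, 2), (75, 5), (65, 4), (8, 3), (76, 4), (66, 3), (77, 5), (10, 4), (11, 4), (53, 3), (32, 2), (76, 5), (66, 4), (11, 6), (65, 5), (56, 4), (10, 6), (54, 5), (46, 4), (6, 3), (65, 5), (56, 4), (8, 3), (66, 4), (9, 3), (10, 3), (11, 3), (25, 2), (3, 1), (72, 2), (32, 1), (11, 4), (66, 3), (10, 4), (53, 3), (32, 2), (5, 1), (73, 3), (63, 2), (46, 1), (77, 4), (10, 3), (11, 3), (73, 4), (54, 3), (46, 2), (6, 1), (74, 3), (55, 2), (47, 1), (69, 4), (50, 3), (42, 2), (35, 1), (75, 4), (8, 3), (76, 3), (77, 4), (11, 5), (71, 5), (61, 4), (52, 3), (37, 2), (77, 5), (11, 6), (63, 5), (54, 4), (39, 3), (76, 5), (77,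 6), (74, 7), (64, 6), (55, 5), (7, 4), (76, 6), (66, 5), (9, 4), (73, 5), (63, 4), (6, 3), (77, 4), (10, 3), (76, 3), (77, 4), (11, 5), (58, 4), (49, 3), (19, 2), (14, 1), (1, 0), (69, 5), (59, 4), (50, 3), (42, 2), (35, 1), (29, 0), (64, 2), (65, 3), (75, 5), (65, 4), (8, 3), (76, 4), (66, 3), (77, 5), (10, 4), (11, 4), (71, 5), (61, 4), (52, 3), (37, 2), (31, 1), (77, 5), (11, 6), (64, 5), (55, 4), (7, 3), (66, 4), (9, 3), (61, 3), (31, 2), (4, 1), (73, 1), (77, 2), (75, 3), (65, 2), (77, 4), (10, 3), (76, 3), (11, 4), (71, 5), (61, 4), (52, 3), (44, 2), (31, 1), (77, 5), (11, 6), (63, 5), (54, 4), (46, 3), (6, 2), (65, 4), (56, 3), (8, 2), (10, 3), (50, 2), (20, 1), (2, 0), (61, 1), (44, 0), (65, 2), (8, 1), (10, 1), (76, 1), (77, 2), (11, 3), (61, 2), (52, 1), (4, 0), (76, 0), (11, 1), (10, 1), (48, 0), (68, 3),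 (58, 2), (49, 1), (77, 3), (11, 4), (69, 4), (59, 3), (50, 2), (77, 5), (10, 4), (11, 4), (54, 3), (77, 5), (73, 6), (63, 5), (54, 4), (6, 3), (75, 5), (65, 4), (56, 3), (76, 6), (66, 5), (9, 4)]⟩,
    ⟨1, [2, 0], [0, 2, 4, 5, 6, 7], [(22, 1), (15, 0), (72, 6), (53, 5), (45, 4), (32, 3), (75, 6), (65, 5), (76, 7), (66, 6), (11, 8), (74, 8), (64, 7), (55, 6), (47, 5), (68, 9), (58, 8), (49, 7), (41, 6), (34, 5), (28, 4), (23, 3), (19, 2), (16, 1), (52, 5), (31, 4), (4, 3), (73, 3), (76, 4), (11, 5), (56, 4), (62, 6), (53, 5), (45, 4), (32, 3), (75, 6), (65, 5), (76, 7), (66, 6), (11, 8), (10, 7), (54, 6), (46, 5), (6, 4), (55, 5), (47, 4), (9, 6), (73, 6), (46, 5), (39, 4), (75, 6), (11, 7), (74, 8), (64, 7), (47, 6), (7, 5), (77, 7), (10, 6), (11, 6), (8, 5), (77, 6), (11, 7), (74, 7), (64, 6), (55, 5)], [(36, 2),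 (62, 5), (45, 4), (38, 3), (65, 5), (10, 6), (46, 5), (39, 4), (75, 6), (75, 7), (8, 6), (76, 6), (77, 7)], [(71, 5), (52, 4), (44, 3), (31, 2), (26, 1), (63, 4), (46, 3), (65, 5), (8, 4), (66, 4), (11, 6), (63, 5), (54, 4), (6, 3), (64, 4), (55, 3), (66, 5), (9, 4), (10, 4)], [(70, 5), (60, 4), (51, 3), (36, 2), (30, 1), (21, 0), (66, 5), (10, 6), (77, 6), (11, 7), (62, 6), (53, 5), (45, 4), (38, 3), (32, 2), (74, 5), (64, 4), (77, 6), (10, 5), (75, 5), (76, 6), (11, 7), (63, 7), (54, 6), (46, 5), (39, 4), (6, 3), (75, 4), (76, 5), (77, 6), (75, 7), (65, 6), (56, 5), (8, 4), (76, 6), (66, 5), (9, 4), (11, 5), (57, 4), (33, 3), (22, 2), (18, 1), (15, 0), (71, 6), (52, 5), (44, 4), (31, 3), (4, 2), (73, 2), (75, 3), (76, 4), (11, 5), (73, 5), (54, 4), (46, 3), (6, 2), (75, 4), (56, 3), (8, 2), (77, 3), (11, 4), (62,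 3), (53, 2), (77, 4), (74, 5), (64, 4), (55, 3), (74, 6), (64, 5), (55, 4), (7, 3), (75, 5), (65, 4), (56, 3), (76, 6), (66, 5), (9, 4), (77, 5), (10, 4), (11, 4), (68, 5), (58, 4), (41, 3), (23, 2), (16, 1), (53, 5), (32, 4), (76, 7), (66, 6), (11, 8), (63, 7), (54, 6), (6, 5), (64, 6), (55, 5), (66, 7), (9, 6), (75, 7), (65, 6), (77, 8), (10, 7), (11, 7), (71, 7), (44, 6), (37, 5), (26, 4), (4, 3), (72, 3), (75, 4), (77, 5), (74, 6), (64, 5), (47, 4), (75, 7), (65, 6), (8, 5), (11, 6), (63, 5), (39, 4), (77, 6), (75, 7), (65, 6), (77, 8), (10, 7), (69, 7), (42, 6), (35, 5), (29, 4), (24, 3), (17, 2), (72, 8), (62, 7), (53, 6), (45, 5), (32, 4), (75, 7), (65, 6), (76, 8), (66, 7), (11, 9), (10, 8), (75, 8), (56, 7), (8, 6), (77, 7), (73, 8), (63, 7), (54, 6), (6, 5), (77, 7), (10, 6), (74, 6), (55, 5), (75, 7), (56,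 6), (11, 8), (56, 7), (8, 6), (71, 7), (52, 6), (37, 5), (26, 4), (64, 7), (47, 6), (66, 8), (11, 10), (10, 9), (48, 8), (40, 7), (33, 6), (22, 5), (18, 4), (15, 3), (13, 2), (12, 1), (0, 0), (58, 4), (28, 3), (23, 2), (16, 1), (14, 0), (51, 4), (36, 3), (21, 2), (66, 6), (10, 7), (71, 7), (52, 6), (44, 5), (37, 4), (4, 3), (74, 3), (75, 4), (76, 5), (11, 6), (73, 6), (54, 5), (46, 4), (39, 3), (75, 5), (76, 6), (11, 7), (9, 6), (45, 5), (38, 4), (32, 3), (74, 6), (64, 5), (77, 7), (10, 6), (75, 6), (73, 7), (46, 6), (39, 5), (6, 4), (75, 5), (11, 6), (47, 5), (7, 4), (73, 6), (54, 5), (46, 4), (77, 7), (11, 8), (10, 7), (69, 7), (50, 6), (42, 5), (29, 4), (24, 3), (17, 2), (2, 1), (60, 2), (43, 1), (77, 3), (73, 4), (63, 3), (46, 2), (75, 5), (65, 4), (8, 3), (76, 4), (66, 3), (77, 5), (10, 4), (11, 4), (53, 3),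 (32, 2), (76, 5), (66, 4), (11, 6), (65, 5), (56, 4), (10, 6), (54, 5), (46, 4), (6, 3), (65, 5), (56, 4), (8, 3), (66, 4), (9, 3), (10, 3), (11, 3), (25, 2), (3, 1), (72, 2), (32, 1), (11, 4), (66, 3), (10, 4), (53, 3), (32, 2), (5, 1), (73, 3), (63, 2), (46, 1), (77, 4), (10, 3), (11, 3), (73, 4), (54, 3), (46, 2), (6, 1), (74, 3), (55, 2), (47, 1), (69, 4), (50, 3), (42, 2), (35, 1), (75, 4), (8, 3), (76, 3), (77, 4), (11, 5), (71, 5), (61, 4), (52, 3), (37, 2), (77, 5), (11, 6), (63, 5), (54, 4), (39, 3), (76, 5), (77, 6), (74, 7), (64, 6), (55, 5), (7, 4), (76, 6), (66, 5), (9, 4), (70, 5), (60, 4), (30, 3), (21, 2), (71, 6), (61, 5), (31, 4), (4, 3), (73, 3), (77, 4), (11, 5), (63, 4), (6, 3), (65, 3), (66, 4), (71, 6), (61, 5), (52, 4), (44, 3), (77, 6), (11, 7), (63, 6), (54, 5), (46, 4), (65, 7), (56, 6),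 (8, 5), (10, 6), (72, 6), (53, 5), (32, 4), (76, 7), (66, 6), (11, 8), (74, 8), (64, 7), (55, 6), (74, 9), (64, 8), (55, 7), (7, 6), (75, 8), (65, 7), (56, 6), (76, 9), (66, 8), (9, 7), (77, 8), (10, 7), (11, 7), (8, 6), (76, 7), (66, 6), (77, 8), (10, 7), (11, 7), (49, 6), (28, 5), (23, 4), (19, 3), (16, 2), (14, 1), (1, 0), (69, 5), (59, 4), (50, 3), (42, 2), (35, 1), (29, 0), (64, 2), (65, 3), (75, 5), (65, 4), (8, 3), (76, 4), (66, 3), (77, 5), (10, 4), (11, 4), (71, 5), (61, 4), (52, 3), (37, 2), (31, 1), (77, 5), (11, 6), (64, 5), (55, 4), (7, 3), (66, 4), (9, 3), (60, 3), (30, 2), (21, 1), (61, 4), (31, 3), (4, 2), (73, 2), (77, 3), (73, 4), (63, 3), (6, 2), (76, 3), (66, 2), (71, 4), (61, 3), (52, 2), (77, 4), (11, 5), (65, 4), (56, 3), (10, 5), (53, 4), (45, 3), (73, 6), (54, 5), (46, 4), (74, 7), (55, 6),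 (47, 5), (76, 8), (9, 7), (11, 7), (46, 6), (39, 5), (6, 4), (75, 5), (77, 6), (11, 7), (66, 6), (69, 8), (59, 7), (50, 6), (42, 5), (35, 4), (24, 3), (20, 2), (17, 1), (2, 0), (60, 1), (43, 0), (77, 2), (73, 3), (63, 2), (46, 1), (75, 4), (65, 3), (8, 2), (76, 3), (66, 2), (77, 4), (10, 3), (11, 3), (52, 2), (31, 1), (75, 4), (56, 3), (77, 5), (11, 6), (62, 5), (53, 4), (45, 3), (32, 2), (75, 5), (65, 4), (76, 6), (66, 5), (11, 7), (10, 6), (56, 5), (8, 4), (64, 5), (55, 4), (65, 6), (56, 5), (75, 8), (65, 7), (56, 6), (8, 5), (76, 7), (66, 6), (9, 5), (77, 6), (10, 5), (11, 5), (73, 6), (63, 5), (39, 4), (6, 3), (77, 4), (11, 5), (77, 5), (10, 4)]⟩,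
    ⟨1, [3, 0], [0, 3, 4, 5, 6, 7, 8], [(33, 1), (18, 0), (74, 5), (64, 4), (47, 3), (75, 6), (65, 5), (8, 4), (76, 5), (66, 4), (77, 6), (10, 5), (11, 5), (49, 4), (34, 3), (28, 2), (19, 1), (63, 4), (46, 3), (10, 5), (74, 5), (47, 4), (77, 6), (11, 7), (66, 6), (74, 8), (64, 7), (55, 6), (47, 5), (7, 4)], [(37, 2), (7, 3)], [(44, 5), (37, 4), (4, 3), (74, 3), (75, 4), (73, 5), (46, 4), (39, 3), (75, 5), (11, 6), (47, 5), (7, 4)], [(67, 5), (57, 4), (48, 3), (33, 2), (27, 1), (18, 0), (73, 5), (63, 4), (46, 3), (6, 2), (77, 4), (10, 3), (74, 3), (47, 2), (75, 4), (8, 3), (76, 3), (77, 4), (11, 5), (66, 4), (9, 3), (10, 3), (77, 3), (11, 4), (68, 4), (58, 3), (34, 2), (19, 1), (64, 4), (47, 3), (10, 5), (77, 5), (11, 6), (69, 6), (59, 5), (42, 4), (35, 3), (20, 2), (74, 6), (64, 5), (47, 4), (75, 7), (65, 6), (8,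 5), (11, 6), (65, 5), (10, 6), (71, 6), (44, 5), (37, 4), (4, 3), (74, 3), (75, 4), (11, 5), (47, 4), (7, 3), (8, 3), (13, 2), (12, 1), (0, 0), (58, 4), (28, 3), (23, 2), (16, 1), (14, 0), (51, 4), (36, 3), (21, 2), (66, 6), (10, 7), (71, 7), (52, 6), (44, 5), (37, 4), (4, 3), (74, 3), (75, 4), (76, 5), (11, 6), (73, 6), (54, 5), (46, 4), (39, 3), (75, 5), (76, 6), (11, 7), (9, 6), (45, 5), (38, 4), (32, 3), (74, 6), (64, 5), (77, 7), (10, 6), (75, 6), (73, 7), (46, 6), (39, 5), (6, 4), (75, 5), (11, 6), (47, 5), (7, 4), (73, 6), (54, 5), (46, 4), (77, 7), (11, 8), (10, 7), (69, 7), (50, 6), (42, 5), (29, 4), (24, 3), (17, 2), (2, 1), (60, 2), (43, 1), (77, 3), (73, 4), (63, 3), (46, 2), (75, 5), (65, 4), (8, 3), (76, 4), (66, 3), (77, 5), (10, 4), (11, 4), (53, 3), (32, 2), (76, 5), (66, 4), (11, 6), (65, 5), (56,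 4), (10, 6), (54, 5), (46, 4), (6, 3), (65, 5), (56, 4), (8, 3), (66, 4), (9, 3), (10, 3), (11, 3), (25, 2), (3, 1), (72, 2), (32, 1), (11, 4), (66, 3), (10, 4), (53, 3), (32, 2), (5, 1), (73, 3), (63, 2), (46, 1), (77, 4), (10, 3), (11, 3), (73, 4), (54, 3), (46, 2), (6, 1), (74, 3), (55, 2), (47, 1), (69, 4), (50, 3), (42, 2), (35, 1), (75, 4), (8, 3), (76, 3), (77, 4), (11, 5), (71, 5), (61, 4), (52, 3), (37, 2), (77, 5), (11, 6), (63, 5), (54, 4), (39, 3), (76, 5), (77, 6), (74, 7), (64, 6), (55, 5), (7, 4), (76, 6), (66, 5), (9, 4), (68, 5), (58, 4), (28, 3), (19, 2), (14, 1), (1, 0), (69, 5), (59, 4), (50, 3), (42, 2), (35, 1), (29, 0), (64, 2), (65, 3), (75, 5), (65, 4), (8, 3), (76, 4), (66, 3), (77, 5), (10, 4), (11, 4), (71, 5), (61, 4), (52, 3), (37, 2), (31, 1), (77, 5), (11, 6), (64, 5), (55, 4), (7,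 3), (66, 4), (9, 3), (61, 3), (31, 2), (4, 1), (73, 1), (77, 2), (75, 3), (65, 2), (77, 4), (10, 3), (73, 3), (46, 2), (6, 1), (77, 2), (11, 3), (10, 2), (11, 2), (44, 1), (46, 2), (8, 3), (59, 3), (29, 2), (20, 1), (2, 0), (61, 1), (44, 0), (65, 2), (8, 1), (10, 1), (73, 1), (77, 2), (77, 3), (10, 2), (71, 2), (31, 1), (4, 0), (73, 0), (11, 1), (57, 1), (27, 0), (10, 2), (68, 2), (28, 1), (11, 4), (59, 3), (29, 2), (10, 4), (6, 3), (77, 3), (73, 4), (63, 3), (75, 5), (65, 4), (76, 6), (66, 5)]⟩,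
    ⟨1, [5, 0], [0, 5, 7], [(40, 0), (68, 3), (58, 2), (41, 1), (11, 4), (64, 3), (47, 2)], [], [(61, 2), (4, 1), (77, 1), (73, 2), (63, 1), (74, 3), (64, 2), (76, 4), (66, 3), (77, 5), (10, 4), (11, 4)], [(69, 5), (59, 4), (50, 3), (35, 2), (29, 1), (20, 0), (73, 4), (63, 3), (46, 2), (77, 5), (10, 4), (74, 4), (47, 3), (75, 5), (8, 4), (11, 4), (77, 6), (10, 5), (11, 5), (52, 4), (37, 3), (31, 2), (4, 1), (73, 1), (74, 2), (76, 3), (11, 4), (10, 4)]⟩,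
    ⟨1, [3, 3], [8], [(37, 1), (4, 0), (74, 0), (74, 1), (7, 0)], [], [(40, 5), (33, 4), (18, 3), (13, 2), (12, 1), (0, 0), (58, 4), (28, 3), (23, 2), (16, 1), (14, 0), (51, 4), (36, 3), (21, 2), (66, 6), (10, 7), (71, 7), (52, 6), (44, 5), (37, 4), (4, 3), (74, 3), (75, 4), (76, 5), (11, 6), (73, 6), (54, 5), (46, 4), (39, 3), (75, 5), (76, 6), (11, 7), (9, 6), (45, 5), (38, 4), (32, 3), (74, 6), (64, 5), (77, 7), (10, 6), (75, 6), (73, 7), (46, 6), (39, 5), (6, 4), (75, 5), (11, 6), (47, 5), (7, 4), (73, 6), (54, 5), (46, 4), (77, 7), (11, 8), (10, 7), (69, 7), (50, 6), (42, 5), (29, 4), (24, 3), (17, 2), (2, 1), (60, 2), (43, 1), (77, 3), (73, 4), (63, 3), (46, 2), (75, 5), (65, 4), (8, 3), (76, 4), (66, 3), (77, 5), (10, 4), (11, 4), (53, 3), (32, 2), (76, 5), (66, 4), (11, 6), (65, 5), (56, 4), (10, 6), (54,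 5), (46, 4), (6, 3), (65, 5), (56, 4), (8, 3), (66, 4), (9, 3), (10, 3), (11, 3), (25, 2), (3, 1), (72, 2), (32, 1), (11, 4), (66, 3), (10, 4), (53, 3), (32, 2), (5, 1), (73, 3), (63, 2), (46, 1), (77, 4), (10, 3), (11, 3), (73, 4), (54, 3), (46, 2), (6, 1), (74, 3), (55, 2), (47, 1), (69, 4), (50, 3), (42, 2), (35, 1), (75, 4), (8, 3), (76, 3), (77, 4), (11, 5), (71, 5), (61, 4), (52, 3), (37, 2), (77, 5), (11, 6), (63, 5), (54, 4), (39, 3), (76, 5), (77, 6), (74, 7), (64, 6), (55, 5), (7, 4), (76, 6), (66, 5), (9, 4), (71, 5), (61, 4), (31, 3), (4, 2), (73, 2), (77, 3), (11, 4), (63, 3), (6, 2), (65, 2), (10, 3), (74, 3), (47, 2), (75, 4), (8, 3), (76, 3), (77, 4), (11, 5), (65, 4), (56, 3), (10, 5), (68, 5), (49, 4), (41, 3), (34, 2), (14, 1), (1, 0), (69, 5), (59, 4), (50, 3), (42, 2), (35, 1), (29, 0), (64, 2),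 (65, 3), (75, 5), (65, 4), (8, 3), (76, 4), (66, 3), (77, 5), (10, 4), (11, 4), (71, 5), (61, 4), (52, 3), (37, 2), (31, 1), (77, 5), (11, 6), (64, 5), (55, 4), (7, 3), (66, 4), (9, 3), (64, 3), (10, 4), (75, 4), (76, 5), (11, 6), (69, 6), (50, 5), (42, 4), (35, 3), (29, 2), (20, 1), (2, 0), (61, 1), (44, 0), (65, 2), (8, 1), (10, 1), (73, 1), (77, 2), (74, 3), (64, 2), (75, 4), (65, 3), (11, 5), (65, 4), (8, 3), (66, 3), (10, 4), (11, 4), (52, 3), (37, 2), (31, 1), (4, 0), (73, 0), (74, 1), (76, 2), (11, 3), (55, 2), (7, 1), (56, 1)], []⟩,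
    ⟨2, [2, 1], [1, 2], [(59, 4), (50, 3), (42, 2), (29, 1), (20, 0), (73, 4), (63, 3), (46, 2), (77, 5), (10, 4), (75, 4), (8, 3), (76, 3), (77, 4), (11, 5), (10, 4), (51, 3), (30, 2), (21, 1), (72, 6), (62, 5), (53, 4), (32, 3), (76, 6), (66, 5), (11, 7), (10, 6), (73, 6), (54, 5), (6, 4), (75, 5), (56, 4), (76, 6), (9, 5)], [(52, 5), (44, 4), (31, 3), (26, 2), (63, 5), (46, 4), (65, 6), (8, 5), (66, 5), (73, 7), (63, 6), (54, 5), (6, 4), (75, 6), (65, 5), (56, 4), (76, 7), (66, 6), (9, 5), (77, 6), (10, 5)], [(69, 3), (24, 2), (20, 1), (72, 5), (62, 4), (45, 3), (75, 6), (65, 5), (8, 4), (77, 5), (10, 4), (11, 4), (25, 3), (21, 2), (62, 6), (53, 5), (5, 4), (76, 6), (66, 5), (11, 7), (10, 6), (54, 5), (46, 4), (56, 6), (8, 5), (9, 5)], [(49, 5), (41, 4), (28, 3), (23, 2), (16, 1), (14, 0), (51, 4), (36, 3), (21,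 2), (66, 6), (10, 7), (71, 7), (52, 6), (44, 5), (37, 4), (4, 3), (74, 3), (75, 4), (76, 5), (11, 6), (73, 6), (54, 5), (46, 4), (39, 3), (75, 5), (76, 6), (11, 7), (9, 6), (45, 5), (38, 4), (32, 3), (74, 6), (64, 5), (77, 7), (10, 6), (75, 6), (73, 7), (46, 6), (39, 5), (6, 4), (75, 5), (11, 6), (47, 5), (7, 4), (73, 6), (54, 5), (46, 4), (77, 7), (11, 8), (65, 7), (56, 6), (8, 5), (66, 6), (9, 5), (71, 6), (61, 5), (31, 4), (26, 3), (63, 6), (46, 5), (10, 7), (72, 7), (45, 6), (32, 5), (5, 4), (73, 6), (63, 5), (46, 4), (77, 7), (10, 6), (11, 6), (8, 5), (11, 5)]⟩,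
    ⟨3, [0, 0], [5], [(12, 1), (0, 0), (58, 4), (28, 3), (23, 2), (16, 1), (14, 0), (51, 4), (36, 3), (21, 2), (66, 6), (10, 7), (71, 7), (52, 6), (44, 5), (37, 4), (4, 3), (74, 3), (75, 4), (76, 5), (11, 6), (73, 6), (54, 5), (46, 4), (39, 3), (75, 5), (76, 6), (11, 7), (9, 6), (45, 5), (38, 4), (32, 3), (74, 6), (64, 5), (77, 7), (10, 6), (75, 6), (73, 7), (46, 6), (39, 5), (6, 4), (75, 5), (11, 6), (47, 5), (7, 4), (73, 6), (54, 5), (46, 4), (77, 7), (11, 8), (10, 7), (69, 7), (50, 6), (42, 5), (29, 4), (24, 3), (17, 2), (2, 1), (60, 2), (43, 1), (77, 3), (73, 4), (63, 3), (46, 2), (75, 5), (65, 4), (8, 3), (76, 4), (66, 3), (77, 5), (10, 4), (11, 4), (53, 3), (32, 2), (76, 5), (66, 4), (11, 6), (65, 5), (56, 4), (10, 6), (54, 5), (46, 4), (6, 3), (65, 5), (56, 4), (8, 3), (66, 4), (9, 3), (10, 3), (11, 3), (25,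 2), (3, 1), (72, 2), (32, 1), (11, 4), (66, 3), (10, 4), (53, 3), (32, 2), (5, 1), (73, 3), (63, 2), (46, 1), (77, 4), (10, 3), (11, 3), (73, 4), (54, 3), (46, 2), (6, 1), (74, 3), (55, 2), (47, 1), (68, 4), (49, 3), (41, 2), (34, 1), (1, 0), (74, 5), (64, 4), (55, 3), (47, 2), (7, 1), (77, 4), (10, 3), (11, 3), (56, 2), (8, 1), (9, 1), (11, 1)], [], [(67, 6), (48, 5), (33, 4), (22, 3), (13, 2), (12, 1), (0, 0), (58, 4), (28, 3), (23, 2), (16, 1), (14, 0), (51, 4), (36, 3), (21, 2), (66, 6), (10, 7), (71, 7), (52, 6), (44, 5), (37, 4), (4, 3), (74, 3), (75, 4), (76, 5), (11, 6), (73, 6), (54, 5), (46, 4), (39, 3), (75, 5), (76, 6), (11, 7), (9, 6), (45, 5), (38, 4), (32, 3), (74, 6), (64, 5), (77, 7), (10, 6), (75, 6), (73, 7), (46, 6), (39, 5), (6, 4), (75, 5), (11, 6), (47, 5), (7, 4), (73, 6), (54, 5), (46, 4),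 (77, 7), (11, 8), (10, 7), (69, 7), (50, 6), (42, 5), (29, 4), (24, 3), (17, 2), (2, 1), (60, 2), (43, 1), (77, 3), (73, 4), (63, 3), (46, 2), (75, 5), (65, 4), (8, 3), (76, 4), (66, 3), (77, 5), (10, 4), (11, 4), (53, 3), (32, 2), (76, 5), (66, 4), (11, 6), (65, 5), (56, 4), (10, 6), (54, 5), (46, 4), (6, 3), (65, 5), (56, 4), (8, 3), (66, 4), (9, 3), (10, 3), (11, 3), (25, 2), (3, 1), (72, 2), (32, 1), (11, 4), (66, 3), (10, 4), (53, 3), (32, 2), (5, 1), (73, 3), (63, 2), (46, 1), (77, 4), (10, 3), (11, 3), (73, 4), (54, 3), (46, 2), (6, 1), (74, 3), (55, 2), (47, 1), (69, 4), (50, 3), (42, 2), (35, 1), (75, 4), (8, 3), (76, 3), (77, 4), (11, 5), (71, 5), (61, 4), (52, 3), (37, 2), (77, 5), (11, 6), (63, 5), (54, 4), (39, 3), (76, 5), (77, 6), (74, 7), (64, 6), (55, 5), (7, 4), (76, 6), (66, 5), (9, 4), (72, 5),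 (62, 4), (32, 3), (77, 6), (10, 5), (11, 5), (7, 5), (76, 8), (66, 7), (9, 6), (77, 7), (10, 6), (11, 6), (68, 6), (41, 5), (28, 4), (23, 3), (19, 2), (14, 1), (1, 0), (69, 5), (59, 4), (50, 3), (42, 2), (35, 1), (29, 0), (64, 2), (65, 3), (75, 5), (65, 4), (8, 3), (76, 4), (66, 3), (77, 5), (10, 4), (11, 4), (71, 5), (61, 4), (52, 3), (37, 2), (31, 1), (77, 5), (11, 6), (64, 5), (55, 4), (7, 3), (66, 4), (9, 3), (61, 3), (31, 2), (4, 1), (73, 1), (77, 2), (75, 3), (65, 2), (77, 4), (10, 3), (72, 3), (45, 2), (32, 1), (75, 4), (65, 3), (11, 5), (63, 4), (46, 3), (6, 2), (64, 3), (47, 2), (66, 4), (73, 6), (63, 5), (54, 4), (46, 3), (39, 2), (75, 4), (76, 5), (77, 6), (11, 7), (10, 6), (75, 6), (56, 5), (8, 4), (11, 5), (50, 4), (35, 3), (29, 2), (24, 1), (2, 0), (62, 1), (45, 0), (65, 2), (8, 1), (10, 1), (64, 2),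 (65, 3), (76, 5), (66, 4), (77, 6), (10, 5), (11, 5), (53, 4), (45, 3), (38, 2), (32, 1), (5, 0), (73, 2), (63, 1), (46, 0), (77, 3), (10, 2), (11, 2), (47, 1), (65, 3), (8, 2), (66, 2), (74, 4), (64, 3), (55, 2), (7, 1), (76, 3), (66, 2), (9, 1), (11, 2)], []⟩,
    ⟨3, [1, 0], [0, 1, 5, 7, 9], [(13, 0), (49, 5), (34, 4), (28, 3), (19, 2), (14, 1), (52, 5), (37, 4), (4, 3), (74, 3), (76, 4), (11, 5), (56, 4), (63, 6), (54, 5), (46, 4), (39, 3), (75, 5), (76, 6), (77, 7), (77, 8), (10, 7), (11, 7), (55, 6), (47, 5), (7, 4), (76, 7), (66, 6), (9, 5), (11, 6)], [], [(67, 5), (57, 4), (48, 3), (40, 2), (33, 1), (22, 0), (7, 2), (75, 5), (65, 4), (56, 3), (8, 2), (77, 4), (10, 3), (11, 3), (9, 2), (77, 3), (10, 2), (11, 2), (68, 2), (23, 1), (11, 6), (50, 5), (35, 4), (29, 3), (24, 2), (63, 5), (46, 4), (10, 6), (47, 5),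 (8, 6), (76, 6), (77, 7), (11, 8), (62, 7), (53, 6), (38, 5), (32, 4), (5, 3), (73, 5), (63, 4), (46, 3), (77, 6), (10, 5), (11, 5), (47, 4), (66, 6), (77, 8), (10, 7), (74, 7), (55, 6), (47, 5), (7, 4), (76, 6), (9, 5), (11, 5)], [(72, 6), (53, 5), (38, 4), (5, 3), (74, 5), (64, 4), (47, 3), (77, 6), (10, 5), (76, 5), (11, 6), (74, 6), (55, 5), (47, 4), (7, 3), (75, 5), (56, 4), (8, 3), (76, 4), (9, 3), (77, 3), (11, 4), (63, 3), (10, 4), (10, 5)]⟩,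
    ⟨3, [2, 0], [0, 2, 10], [(15, 0), (68, 6), (49, 5), (41, 4), (28, 3), (19, 2), (16, 1), (52, 5), (31, 4), (4, 3), (73, 3), (76, 4), (11, 5), (56, 4), (63, 6), (54, 5), (46, 4), (6, 3), (10, 5), (75, 5), (56, 4), (8, 3), (76, 4), (9, 3), (11, 3)], [], [(67, 5), (40, 4), (18, 3), (15, 2), (12, 1), (0, 0), (58, 4), (28, 3), (23, 2), (16, 1), (14, 0), (51, 4), (36, 3), (21, 2), (66, 6), (10, 7), (71, 7), (52, 6), (44, 5), (37, 4), (4, 3), (74, 3), (75, 4), (76, 5), (11, 6), (73, 6), (54, 5), (46, 4), (39, 3), (75, 5), (76, 6), (11, 7), (9, 6), (45, 5), (38, 4), (32, 3), (74, 6), (64, 5), (77, 7), (10, 6), (75, 6), (73, 7), (46, 6), (39, 5), (6, 4), (75, 5), (11, 6), (47, 5), (7, 4), (73, 6), (54, 5), (46, 4), (77, 7), (11, 8), (10, 7), (69, 7), (50, 6), (42, 5), (29, 4), (24, 3), (17, 2), (2, 1), (60, 2), (43, 1),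 (77, 3), (73, 4), (63, 3), (46, 2), (75, 5), (65, 4), (8, 3), (76, 4), (66, 3), (77, 5), (10, 4), (11, 4), (53, 3), (32, 2), (76, 5), (66, 4), (11, 6), (65, 5), (56, 4), (10, 6), (54, 5), (46, 4), (6, 3), (65, 5), (56, 4), (8, 3), (66, 4), (9, 3), (10, 3), (11, 3), (25, 2), (3, 1), (72, 2), (32, 1), (11, 4), (66, 3), (10, 4), (53, 3), (32, 2), (5, 1), (73, 3), (63, 2), (46, 1), (77, 4), (10, 3), (11, 3), (73, 4), (54, 3), (46, 2), (6, 1), (74, 3), (55, 2), (47, 1), (70, 4), (51, 3), (43, 2), (36, 1), (65, 4), (8, 3), (76, 4), (66, 3), (77, 5), (10, 4), (11, 4), (71, 4), (52, 3), (37, 2), (11, 5), (54, 4), (39, 3), (76, 5), (75, 6), (56, 5), (76, 7), (9, 6), (11, 6), (44, 5), (37, 4), (31, 3), (4, 2), (73, 2), (74, 3), (75, 4), (73, 5), (46, 4), (39, 3), (6, 2), (75, 3), (11, 4), (8, 3), (75, 4), (65, 3), (77, 5),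 (10, 4), (11, 4), (68, 4), (41, 3), (34, 2), (16, 1), (1, 0), (70, 5), (60, 4), (51, 3), (43, 2), (36, 1), (30, 0), (65, 4), (8, 3), (76, 4), (66, 3), (77, 5), (10, 4), (11, 4), (71, 5), (61, 4), (52, 3), (37, 2), (31, 1), (77, 5), (11, 6), (63, 5), (54, 4), (39, 3), (6, 2), (76, 3), (77, 4), (76, 5), (66, 4), (9, 3), (74, 4), (64, 3), (7, 2), (77, 3), (10, 2), (11, 2), (69, 3), (42, 2), (20, 1), (17, 0), (71, 6), (61, 5), (52, 4), (44, 3), (31, 2), (77, 6), (11, 7), (65, 6), (56, 5), (8, 4), (10, 5), (75, 5), (56, 4), (11, 6), (53, 5), (45, 4), (32, 3), (75, 6), (65, 5), (76, 7), (66, 6), (11, 8), (64, 7), (55, 6), (47, 5), (66, 8), (9, 7)], [(67, 6), (48, 5), (33, 4), (22, 3), (13, 2), (12, 1), (0, 0), (58, 4), (28, 3), (23, 2), (16, 1), (14, 0), (51, 4), (36, 3), (21, 2), (66, 6), (10, 7), (71, 7), (52, 6), (44,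 5), (37, 4), (4, 3), (74, 3), (75, 4), (76, 5), (11, 6), (73, 6), (54, 5), (46, 4), (39, 3), (75, 5), (76, 6), (11, 7), (9, 6), (45, 5), (38, 4), (32, 3), (74, 6), (64, 5), (77, 7), (10, 6), (75, 6), (73, 7), (46, 6), (39, 5), (6, 4), (75, 5), (11, 6), (47, 5), (7, 4), (73, 6), (54, 5), (46, 4), (77, 7), (11, 8), (10, 7), (69, 7), (50, 6), (42, 5), (29, 4), (24, 3), (17, 2), (2, 1), (60, 2), (43, 1), (77, 3), (73, 4), (63, 3), (46, 2), (75, 5), (65, 4), (8, 3), (76, 4), (66, 3), (77, 5), (10, 4), (11, 4), (53, 3), (32, 2), (76, 5), (66, 4), (11, 6), (65, 5), (56, 4), (10, 6), (54, 5), (46, 4), (6, 3), (65, 5), (56, 4), (8, 3), (66, 4), (9, 3), (10, 3), (11, 3), (25, 2), (3, 1), (72, 2), (32, 1), (11, 4), (66, 3), (10, 4), (53, 3), (32, 2), (5, 1), (73, 3), (63, 2), (46, 1), (77, 4), (10, 3), (11, 3), (73, 4), (54,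 3), (46, 2), (6, 1), (74, 3), (55, 2), (47, 1), (69, 4), (50, 3), (42, 2), (35, 1), (75, 4), (8, 3), (76, 3), (77, 4), (11, 5), (71, 5), (61, 4), (52, 3), (37, 2), (77, 5), (11, 6), (63, 5), (54, 4), (39, 3), (76, 5), (77, 6), (74, 7), (64, 6), (55, 5), (7, 4), (76, 6), (66, 5), (9, 4), (72, 5), (62, 4), (32, 3), (77, 6), (10, 5), (11, 5), (7, 5), (76, 8), (66, 7), (9, 6), (77, 7), (10, 6), (11, 6), (68, 6), (41, 5), (28, 4), (23, 3), (19, 2), (14, 1), (1, 0), (69, 5), (59, 4), (50, 3), (42, 2), (35, 1), (29, 0), (64, 2), (65, 3), (75, 5), (65, 4), (8, 3), (76, 4), (66, 3), (77, 5), (10, 4), (11, 4), (71, 5), (61, 4), (52, 3), (37, 2), (31, 1), (77, 5), (11, 6), (64, 5), (55, 4), (7, 3), (66, 4), (9, 3), (61, 3), (31, 2), (4, 1), (73, 1), (77, 2), (75, 3), (65, 2), (77, 4), (10, 3), (72, 3), (45, 2), (32, 1), (75,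 4), (65, 3), (11, 5), (63, 4), (46, 3), (6, 2), (64, 3), (47, 2), (66, 4), (73, 6), (63, 5), (54, 4), (46, 3), (39, 2), (75, 4), (76, 5), (77, 6), (11, 7), (10, 6), (75, 6), (56, 5), (8, 4), (11, 5), (51, 4), (36, 3), (30, 2), (25, 1), (63, 4), (54, 3), (64, 5), (55, 4), (65, 6), (56, 5), (10, 7), (9, 6), (71, 7), (61, 6), (44, 5), (37, 4), (31, 3), (26, 2), (63, 5), (46, 4), (64, 6), (47, 5), (65, 7), (8, 6), (10, 6), (75, 6), (11, 7)]⟩,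
    ⟨3, [3, 0], [0, 3, 5, 9, 10], [(18, 0), (68, 5), (58, 4), (41, 3), (28, 2), (19, 1), (63, 4), (46, 3), (10, 5), (75, 5), (8, 4), (77, 4), (11, 5)], [], [(57, 6), (48, 5), (40, 4), (33, 3), (22, 2), (18, 1), (13, 0), (52, 5), (37, 4), (31, 3), (4, 2), (73, 2), (74, 3), (76, 4), (11, 5), (54, 4), (39, 3), (6, 2), (76, 3), (75, 4), (56, 3), (77, 5), (11, 6), (62, 5), (53, 4), (45, 3), (38, 2), (65, 4), (66, 5), (77, 7), (10, 6), (74, 6), (55, 5), (47, 4), (7, 3), (74, 5), (55, 4), (47, 3), (75, 6), (56, 5), (8, 4), (76, 5), (9, 4), (77, 4), (11, 5), (65, 4), (10, 5), (76, 5), (77, 6), (11, 7), (10, 6), (68, 6), (49, 5), (41, 4), (34, 3), (23, 2), (14, 1), (53, 5), (38, 4), (66, 6), (73, 8), (63, 7), (54, 6), (39, 5), (76, 7), (77, 8), (11, 9), (64, 8), (55, 7), (7, 6), (66, 7), (9, 6), (74, 7), (64, 6), (77, 8),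 (10, 7), (11, 7), (11, 9), (50, 8), (42, 7), (35, 6), (29, 5), (24, 4), (20, 3), (2, 2), (61, 3), (44, 2), (65, 4), (8, 3), (10, 3), (72, 3), (75, 4), (77, 5), (73, 6), (63, 5), (46, 4), (77, 7), (10, 6), (74, 6), (47, 5), (75, 7), (8, 6), (11, 6), (72, 9), (62, 8), (53, 7), (45, 6), (38, 5), (32, 4), (5, 3), (73, 5), (63, 4), (46, 3), (77, 6), (10, 5), (11, 5), (47, 4), (65, 6), (8, 5), (66, 5), (77, 7), (10, 6), (11, 6), (55, 5), (7, 4), (9, 4)], [(69, 6), (50, 5), (35, 4), (24, 3), (2, 2), (62, 3), (45, 2), (65, 4), (8, 3), (10, 3), (76, 5), (77, 6), (11, 7), (71, 7), (61, 6), (52, 5), (44, 4), (37, 3), (26, 2), (64, 5), (47, 4), (65, 6), (8, 5), (66, 5), (77, 7), (10, 6), (11, 6), (53, 5), (38, 4), (5, 3), (74, 5), (64, 4), (47, 3), (77, 6), (10, 5), (76, 5), (11, 6), (55, 5), (47, 4), (7, 3), (56, 4), (8, 3),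 (9, 3), (63, 3), (10, 4), (10, 4)]⟩,
    ⟨3, [4, 0], [0, 4, 5, 8, 9], [(22, 0), (34, 2), (23, 1), (74, 6), (55, 5), (7, 4), (77, 5), (11, 6)], [], [(57, 4), (40, 3), (22, 2), (18, 1), (13, 0), (52, 5), (37, 4), (31, 3), (4, 2), (73, 2), (74, 3), (76, 4), (11, 5), (54, 4), (39, 3), (6, 2), (76, 3), (75, 4), (56, 3), (77, 5), (11, 6), (62, 5), (53, 4), (45, 3), (38, 2), (65, 4), (66, 5), (77, 7), (10, 6), (74, 6), (55, 5), (47, 4), (7, 3), (75, 5), (56, 4), (8, 3), (77, 4), (11, 5), (10, 4), (68, 4), (49, 3), (23, 2), (14, 1), (53, 5), (38, 4), (66, 6), (73, 8), (63, 7), (54, 6), (39, 5), (76, 7), (77, 8), (11, 9), (64, 8), (55, 7), (7, 6), (66, 7), (9, 6), (76, 7), (66, 6), (11, 8), (69, 8), (59, 7), (50, 6), (29, 5), (24, 4), (20, 3), (2, 2), (61, 3), (44, 2), (65, 4), (8, 3), (10, 3), (72, 3), (75, 4), (77, 5), (73,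 6), (63, 5), (46, 4), (77, 7), (10, 6), (76, 6), (77, 7), (11, 8), (10, 7), (72, 7), (53, 6), (45, 5), (32, 4), (5, 3), (73, 5), (63, 4), (46, 3), (77, 6), (10, 5), (11, 5), (8, 4), (11, 5), (55, 4), (9, 5)], [(69, 6), (50, 5), (35, 4), (24, 3), (2, 2), (62, 3), (45, 2), (65, 4), (8, 3), (10, 3), (76, 5), (77, 6), (11, 7), (71, 7), (61, 6), (52, 5), (44, 4), (37, 3), (26, 2), (64, 5), (47, 4), (65, 6), (8, 5), (66, 5), (77, 7), (10, 6), (11, 6), (53, 5), (38, 4), (5, 3), (74, 5), (64, 4), (47, 3), (77, 6), (10, 5), (76, 5), (11, 6), (56, 5), (8, 4), (63, 5), (54, 4), (39, 3), (76, 5), (77, 6), (77, 7), (10, 6), (76, 6), (9, 5), (77, 5), (77, 6), (10, 5)]⟩,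
    ⟨3, [7, 0], [0, 7, 9], [(40, 0), (68, 3), (58, 2), (41, 1), (11, 4)], [], [(57, 1), (40, 0), (77, 3), (10, 2), (11, 2), (41, 1), (42, 2), (45, 3), (47, 4)], [(75, 6), (56, 5), (77, 7), (77, 8), (10, 7)]⟩,
    ⟨3, [8, 0], [0, 8, 9, 10], [(48, 0), (68, 3), (58, 2), (49, 1), (77, 3), (11, 4)], [], [(57, 1), (48, 0), (77, 3), (10, 2), (11, 2), (49, 1), (69, 3), (50, 2), (11, 5), (62, 4), (53, 3), (77, 5), (74, 6), (64, 5), (55, 4), (76, 7), (66, 6), (9, 5), (11, 6)], [(76, 6), (9, 5), (77, 5), (77, 6), (10, 5), (77, 5), (11, 6)]⟩,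
    ⟨3, [2, 1], [1, 2, 5, 7, 8, 9, 10], [(17, 0)], [], [(72, 5), (45, 4), (74, 6), (47, 5), (75, 7), (8, 6), (76, 6), (77, 7), (11, 8)], [(67, 5), (57, 4), (48, 3), (40, 2), (33, 1), (22, 0), (7, 2), (75, 5), (65, 4), (56, 3), (8, 2), (77, 4), (10, 3), (11, 3), (9, 2), (77, 3), (10, 2), (11, 2), (68, 2), (23, 1), (11, 6), (51, 5), (36, 4), (30, 3), (25, 2), (63, 5), (54, 4), (64, 6), (55, 5), (65, 7), (56, 6), (10, 8), (9, 7), (71, 8), (61, 7), (44, 6), (37, 5), (31, 4), (26, 3), (63, 6), (46, 5), (64, 7), (47, 6), (65, 8), (8, 7), (10, 7), (75, 7), (11, 8), (46, 7), (39, 6), (6, 5), (75, 6), (77, 7), (75, 8), (65, 7), (8, 6), (77, 7), (10, 6), (76, 6), (77, 7), (77, 8), (10, 7), (77, 7), (11, 8)]⟩,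
    ⟨4, [1, 0], [0, 1, 6], [(48, 3), (33, 2), (22, 1), (13, 0), (53, 5), (38, 4), (32, 3), (74, 6), (64, 5), (77, 7), (10, 6), (76, 6), (11, 7), (55, 6), (7, 5), (55, 5), (56, 6), (9, 7), (76, 8), (66, 7), (77, 9), (10, 8), (11, 8), (49, 7), (41, 6), (34, 5), (28, 4), (23, 3), (19, 2), (14, 1), (52, 5), (37, 4), (4, 3), (74, 3), (76, 4), (11, 5), (56, 4), (62, 6), (53, 5), (45, 4), (38, 3), (65, 5), (66, 6), (77, 8), (10, 7), (73, 7), (54, 6), (46, 5), (39, 4), (75, 6), (76, 7), (11, 8), (55, 7), (47, 6), (7, 5), (9, 6), (73, 6), (46, 5), (6, 4), (77, 5), (11, 6), (64, 5), (47, 4), (10, 6), (75, 6), (8, 5), (76, 5), (11, 6), (53, 5), (38, 4), (5, 3), (74, 5), (64, 4), (47, 3), (77, 6), (10, 5), (76, 5), (11, 6), (55, 5), (47, 4), (7, 3)], [(35, 3), (24, 2), (64, 5), (47, 4), (65, 6), (8, 5), (72, 6), (62, 5), (38,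 4), (5, 3), (74, 5), (64, 4), (47, 3), (77, 6), (10, 5), (77, 5), (11, 6), (64, 5), (47, 4), (7, 3), (66, 4), (10, 5)], [], [(69, 3), (59, 2), (50, 1), (42, 0), (77, 4), (10, 3), (11, 3), (52, 2), (44, 1), (73, 4), (54, 3), (46, 2), (77, 5)]⟩,
    ⟨4, [3, 0], [0, 3], [(33, 2), (22, 1), (18, 0), (72, 5), (62, 4), (45, 3), (32, 2), (75, 5), (65, 4), (77, 6), (10, 5), (11, 5), (47, 4), (47, 5), (7, 4), (8, 4), (68, 6), (58, 5), (49, 4), (28, 3), (23, 2), (19, 1), (62, 4), (45, 3), (63, 5), (46, 4), (64, 6), (47, 5), (66, 7), (73, 9), (63, 8), (54, 7), (46, 6), (39, 5), (6, 4), (75, 5), (76, 6), (77, 7), (11, 8), (10, 7), (76, 7), (9, 6), (11, 6), (11, 7), (62, 6), (45, 5), (38, 4), (5, 3), (74, 5), (64, 4), (47, 3), (77, 6), (10, 5), (75, 5), (8, 4), (77, 4), (74, 5), (64, 4), (7, 3)], [(37, 3), (26, 2), (64, 5), (47,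 4), (62, 6), (45, 5), (38, 4), (5, 3), (74, 5), (64, 4), (47, 3), (77, 6), (10, 5), (75, 5), (8, 4), (77, 4), (74, 5), (64, 4), (7, 3)], [(56, 4), (8, 3), (9, 3)], [(71, 3), (61, 2), (52, 1), (44, 0), (77, 3), (11, 4), (62, 3), (53, 2), (45, 1), (77, 4), (74, 5), (64, 4), (55, 3), (47, 2), (75, 6), (65, 5), (56, 4), (8, 3), (76, 5), (66, 4), (9, 3)]⟩,
    ⟨4, [3, 1], [1, 3, 6], [(35, 2), (24, 1), (20, 0), (72, 4), (62, 3), (45, 2), (75, 5), (65, 4), (8, 3), (77, 4), (10, 3), (74, 3), (75, 4), (11, 5), (45, 4), (38, 3), (5, 2), (74, 4), (64, 3), (47, 2), (77, 5), (10, 4), (75, 4), (8, 3), (74, 3), (7, 2), (76, 2)], [(52, 3), (37, 2), (26, 1), (64, 4), (47, 3), (66, 5), (72, 7), (62, 6), (53, 5), (45, 4), (38, 3), (5, 2), (74, 4), (64, 3), (47, 2), (77, 5), (10, 4), (75, 4), (8, 3), (76, 3), (11, 4), (74, 5), (64, 4),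 (55, 3), (7, 2), (77, 4), (10, 3)], [(50, 4), (42, 3), (35, 2), (24, 1), (20, 0), (72, 4), (62, 3), (45, 2), (75, 5), (65, 4), (8, 3), (77, 4), (10, 3), (74, 3), (75, 4), (11, 5), (8, 4), (71, 6), (61, 5), (52, 4), (37, 3), (26, 2), (4, 1), (72, 1), (75, 2), (77, 3), (74, 4), (64, 3), (47, 2), (76, 5), (66, 4), (11, 6), (10, 5), (73, 5), (54, 4), (46, 3), (39, 2), (75, 4), (76, 5), (11, 6)], [(31, 2), (4, 1), (73, 1), (72, 2), (32, 1), (11, 4), (64, 3), (65, 4), (66, 5), (10, 6)]⟩]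
  adj := [
    [],
    [],
    [(3, 1), (4, 1), (12, 1), (13, 1), (16, 1)],
    [],
    [(1, 1), (2, 1), (4, 1), (13, 1)],
    [],
    [(3, 1), (4, 1)],
    [(13, 1), (16, 1)],
    [(0, 1), (2, 1), (12, 1), (13, 1), (16, 1)],
    [(1, 1), (2, 1), (3, 1), (13, 1), (16, 1)],
    [(0, 1), (12, 1), (13, 1), (16, 1)],
    [(4, 1)]]
  base := []
  dense := [
    [0, 0, 0, 0, 1, 0, 1, 1, 1, 1, 0, 1, 0, 1, 0, 1, 0, 0, 0, 0, 0, 1, 1, 0, 0, 0, 0, 1, 0, 0, 1, 1, 0, 0, 0, 0, 1, 1, 1, 1, 0, 0, 0, 0, 1, 0, 1, 0, 0, 0, 0, 1, 1, 0, 1, 0, 1, 1, 0, 0, 0, 0, 0, 1, 1, 0, 1, 0, 0, 0, 0, 1, 1, 1],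
    [0, 0, 0, 0, 0, 0, 0, 0, 0, 0, 1, 0, 0, 0, 0, 0, 0, 0, 0, 0, 0, 0, 0, 0, 0, 0, 0, 0, 1, 0, 0, 0, 0, 0, 1, 0, 0, 0, 0, 0, 0, 1, 0, 0, 0, 0, 0, 0, 0, 1, 0, 0, 0, 0, 0, 0, 0, 0, 1, 0, 0, 0, 0, 0, 1, 0, 0, 0, 1, 0, 0, 0, 0, 0, 1],
    [0, 0, 1, 1, 1, 1, 1, 0, 0, 0, 0, 1, 0, 0, 1, 0, 1, 1, 0, 0, 0, 1, 0, 1, 1, 1, 0, 1, 1, 1, 0, 0, 0, 1, 1, 1, 0, 1, 0, 1, 1, 0, 1, 0, 0, 1, 1, 0, 1, 0, 1, 1, 1, 0, 0, 0, 1, 1, 0, 0, 1, 0, 1, 1, 1, 0, 1, 1, 0, 1, 0, 1, 0, 1, 0, 0, 1, 1],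
    [0, 0, 1, 1, 0, 1, 0, 1, 0, 0, 1, 0, 0, 1, 1, 1, 1, 1, 0, 0, 0, 0, 1, 1, 1, 1, 0, 1, 1, 1, 1, 1, 0, 1, 0, 1, 1, 0, 1, 0, 0, 0, 0, 1, 1, 0, 0, 0, 0, 0, 0, 1, 0, 1, 0, 0, 1, 0, 1, 0, 0, 0, 1, 1, 1, 0, 1, 0, 0, 0, 1, 1, 0, 1, 1, 0, 1, 1],
    [0, 0, 0, 0, 0, 0, 0, 0, 0, 0, 0, 0, 0, 0, 0, 0, 0, 0, 0, 0, 0, 0, 0, 0, 0, 0, 0, 0, 0, 0, 0, 0, 0, 0, 0, 0, 0, 0, 0, 0, 0, 0, 1, 0, 0, 0, 0, 0, 0, 0, 0, 0, 0, 0, 0, 0, 0, 0, 0, 1],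
    [0, 0, 0, 0, 1, 0, 1, 1, 1, 1, 1, 0, 0, 0, 0, 0, 0, 0, 0, 0, 1, 0, 0, 0, 0, 0, 0, 0, 0, 1, 0, 1, 0, 0, 0, 1, 0, 1, 0, 1, 1, 0, 0, 0, 0, 0, 1, 1, 0, 0, 1, 0, 1, 0, 1, 1, 0, 1, 0, 0, 0, 1, 0, 0, 1, 0, 1, 0, 0, 0, 0, 1, 0, 1, 0, 1],
    [0, 0, 0, 0, 1, 0, 0, 1, 1, 0, 1, 1, 0, 0, 0, 0, 0, 1, 1, 0, 0, 0, 0, 0, 1, 0, 0, 1, 0, 1, 0, 1, 1, 1, 0, 0, 0, 1, 0, 0, 0, 0, 0, 0, 1, 1, 1, 1, 1, 0, 0, 0, 1, 1, 0, 1, 1, 0, 0, 1, 0, 1, 1, 1, 0, 1, 1, 0, 0, 0, 0, 1, 0, 0, 1, 1],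
    [0, 0, 0, 0, 1, 0, 0, 1, 1, 1, 1, 0, 0, 0, 0, 0, 0, 0, 0, 0, 1, 0, 0, 0, 0, 0, 0, 0, 0, 0, 0, 0, 0, 0, 0, 1, 0, 1, 0, 0, 0, 1, 0, 0, 0, 0, 0, 1, 0, 0, 1, 0, 1, 0, 0, 1, 0, 0, 1, 0, 0, 0, 0, 0, 1, 1, 1, 0, 0, 0, 0, 1, 0, 0, 1],
    [0, 0, 0, 0, 1, 0, 0, 1, 1, 1, 0, 1, 0, 0, 0, 0, 0, 0, 0, 1, 0, 0, 0, 0, 0, 0, 0, 0, 0, 1, 0, 0, 0, 0, 1, 1, 0, 1, 0, 0, 0, 0, 1, 0, 0, 0, 0, 1, 0, 1, 1, 0, 1, 0, 0, 1, 0, 0, 0, 1, 0, 0, 0, 0, 0, 1, 1, 0, 0, 1, 0, 1, 0, 1, 1, 0, 1, 1],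
    [0, 0, 0, 0, 0, 0, 1, 0, 1, 1, 0, 0, 0, 0, 0, 0, 0, 1, 1, 1, 0, 0, 0, 0, 1, 0, 0, 0, 1, 0, 1, 1, 0, 1, 1, 1, 0, 0, 0, 0, 0, 0, 1, 1, 1, 0, 0, 1, 1, 1, 0, 0, 0, 1, 1, 1, 1, 0, 0, 1, 0, 1, 1, 1, 0, 1, 1, 0, 0, 0, 0, 0, 1, 1],
    [0, 0, 0, 0, 0, 0, 0, 0, 0, 0, 0, 0, 0, 0, 0, 0, 0, 0, 0, 0, 0, 0, 0, 0, 0, 0, 0, 0, 0, 0, 1, 0, 0, 0, 0, 0, 0, 0, 0, 0, 0, 0, 0, 0, 0, 0, 0, 0, 0, 0, 0, 0, 0, 0, 0, 0, 0, 0, 0, 0, 0, 0, 0, 0, 0, 0, 0, 0, 0, 0, 1],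
    [0, 0, 0, 0, 1, 0, 1, 0, 1, 1, 0, 1, 0, 0, 0, 0, 0, 0, 0, 0, 0, 1, 0, 0, 0, 0, 0, 1, 0, 0, 1, 1, 0, 0, 0, 0, 0, 0, 0, 0, 0, 0, 0, 1, 1, 0, 1, 0, 0, 0, 0, 1, 1, 0, 1, 0, 1, 0, 0, 0, 0, 1, 0, 1, 0, 1, 1, 1, 0, 0, 1, 1, 0, 1, 0, 0, 1],
    [0, 0, 0, 0, 1, 0, 1, 0, 0, 1, 1, 0, 0, 0, 0, 0, 0, 1, 1, 0, 0, 0, 0, 0, 0, 1, 0, 1, 0, 0, 0, 1, 1, 0, 0, 0, 0, 0, 0, 0, 1, 0, 0, 1, 0, 1, 0, 0, 1, 0, 0, 1, 1, 1, 1, 0, 1, 0, 0, 0, 0, 1, 0, 0, 0, 0, 0, 1, 0, 0, 1, 0, 0, 1],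
    [0, 0, 0, 0, 1, 0, 1, 0, 0, 1, 0, 1, 0, 0, 0, 0, 0, 0, 0, 0, 0, 1, 0, 0, 0, 0, 0, 0, 1, 0, 1, 1, 0, 0, 0, 0, 0, 0, 0, 0, 0, 0, 0, 0, 0, 0, 0, 0, 0, 0, 0, 1, 1, 0, 1, 0, 0, 0, 0, 0, 0, 1, 0, 1, 0, 0, 1, 0, 1, 0, 0, 1, 0, 1, 0, 0, 0, 1],
    [0, 0, 0, 0, 1, 0, 1, 0, 1, 1, 0, 0, 0, 0, 0, 0, 0, 0, 0, 1, 0, 0, 0, 0, 0, 0, 0, 0, 1, 0, 1, 1, 0, 0, 0, 0, 1, 0, 0, 0, 0, 0, 0, 1, 0, 0, 1, 0, 0, 1, 0, 1, 1, 0, 1, 0, 0, 0, 0, 0, 1, 0, 0, 1, 0, 0, 1, 0, 0, 0, 1, 0, 0, 0, 1, 1, 1, 1],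
    [0, 0, 0, 0, 0, 0, 0, 0, 1, 0, 0, 0, 0, 0, 0, 0, 0, 1, 1, 1, 0, 0, 0, 0, 0, 1, 0, 1, 1, 0, 0, 0, 1, 0, 0, 0, 1, 0, 0, 1, 0, 1, 0, 1, 0, 1, 0, 1, 1, 1, 0, 1, 0, 1, 0, 0, 0, 0, 0, 0, 1, 1, 0, 1, 0, 1, 1, 0, 1, 1, 0, 1, 1, 0, 1, 0, 0, 1],
    [0, 0, 0, 0, 0, 0, 1, 0, 1, 1, 1, 0, 0, 0, 0, 0, 0, 0, 0, 0, 0, 0, 0, 0, 0, 0, 0, 0, 0, 1, 1, 0, 0, 0, 0, 0, 0, 0, 0, 0, 0, 0, 0, 1, 0, 0, 1, 0, 0, 0, 0, 1, 0, 0, 1, 0, 1, 0, 0, 0, 1, 0, 0, 0, 0, 0, 0, 0, 0, 1, 1, 0, 0, 1, 0, 1, 0, 1],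
    [0, 0, 0, 0, 0, 0, 1, 0, 1, 1, 0, 0, 0, 0, 0, 0, 0, 0, 0, 0, 0, 0, 0, 0, 0, 0, 0, 0, 0, 1, 0, 0, 0, 0, 0, 0, 0, 0, 0, 0, 0, 0, 1, 1, 0, 0, 1, 0, 0, 0, 1, 0, 0, 0, 1, 0, 1, 0, 0, 1, 1, 0, 0, 1, 0, 0, 0, 0, 0, 1, 0, 0, 0, 1, 0, 1, 1, 1],
    [0, 0, 0, 0, 0, 0, 0, 0, 0, 0, 1, 0, 0, 0, 0, 0, 0, 0, 0, 0, 1, 1, 0, 0, 0, 0, 0, 1, 0, 1, 1, 0, 0, 0, 0, 0, 1, 1, 0, 0, 1, 0, 1, 0, 1, 0, 0, 1, 1, 0, 1, 1, 0, 0, 0, 0, 1, 1, 0, 0, 0, 1, 0, 0, 0, 1, 0, 1, 0, 1, 0, 1, 0, 0, 1],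
    [0, 0, 0, 0, 0, 0, 0, 0, 0, 0, 0, 0, 0, 0, 0, 0, 0, 0, 0, 0, 1, 1, 0, 0, 0, 0, 0, 0, 1, 1, 0, 1, 0, 0, 0, 0, 1, 1, 0, 0, 0, 1, 0, 0, 0, 0, 0, 0, 0, 1, 1, 1, 0, 0, 0, 0, 1, 0, 1, 0, 0, 1, 0, 0, 0, 0, 1, 0, 1, 0, 0, 0, 0, 0, 0, 1, 0, 1],
    [0, 0, 0, 0, 0, 0, 0, 0, 0, 0, 0, 0, 0, 0, 0, 0, 0, 0, 0, 0, 0, 0, 0, 0, 0, 0, 0, 0, 0, 0, 0, 0, 0, 0, 0, 0, 0, 0, 0, 0, 0, 0, 0, 0, 0, 0, 0, 0, 0, 0, 0, 0, 0, 0, 0, 0, 0, 0, 0, 0, 0, 0, 0, 0, 0, 0, 0, 0, 0, 0, 0, 1],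
    [0, 0, 0, 0, 0, 0, 1, 0, 1, 0, 1, 1, 0, 0, 0, 0, 0, 0, 0, 0, 0, 0, 0, 0, 0, 0, 0, 0, 0, 0, 0, 1, 0, 0, 0, 0, 0, 0, 0, 0, 0, 0, 0, 0, 1, 0, 1, 0, 0, 0, 0, 0, 0, 0, 0, 0, 0, 0, 0, 0, 0, 1, 0, 1, 0, 1, 0, 1, 0, 0, 0, 1, 0, 1, 0, 1, 0, 1],
    [0, 0, 0, 0, 0, 0, 1, 0, 1, 0, 0, 1, 0, 0, 0, 0, 0, 0, 0, 0, 1, 1, 0, 0, 0, 0, 1, 1, 0, 0, 0, 1, 0, 0, 0, 0, 0, 0, 0, 0, 1, 0, 0, 1, 0, 1, 1, 0, 0, 0, 0, 0, 0, 0, 0, 0, 0, 1, 0, 0, 1, 1, 1, 1, 0, 0, 0, 1, 0, 0, 1, 0, 0, 1, 0, 1, 0, 1],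
    [0, 0, 0, 0, 0, 0, 0, 0, 1, 0, 1, 0, 0, 0, 0, 0, 0, 0, 0, 0, 0, 0, 0, 0, 0, 0, 0, 0, 0, 0, 0, 0, 0, 0, 0, 0, 0, 0, 0, 0, 0, 0, 0, 0, 1, 0, 0, 0, 0, 0, 0, 0, 0, 0, 0, 0, 0, 0, 0, 0, 0, 1, 0, 0, 0, 1, 0, 0, 1],
    [0, 0, 0, 0, 0, 0, 0, 0, 1, 0, 1, 1, 0, 0, 0, 0, 0, 0, 0, 0, 0, 0, 0, 0, 0, 0, 0, 0, 0, 0, 0, 1, 0, 0, 0, 0, 0, 1, 0, 0, 0, 1, 0, 0, 1, 0, 0, 0, 0, 0, 0, 0, 1, 0, 0, 0, 0, 0, 1, 0, 0, 1, 0, 0, 0, 1, 0, 0, 0, 0, 0, 1, 0, 0, 0, 0, 0, 1],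
    [0, 0, 0, 0, 0, 0, 0, 0, 0, 0, 1, 1, 0, 0, 0, 0, 0, 0, 0, 0, 1, 1, 0, 0, 0, 0, 1, 0, 1, 1, 1, 1, 1, 0, 0, 0, 0, 1, 0, 1, 1, 1, 0, 1, 0, 1, 1, 0, 0, 0, 0, 0, 0, 0, 0, 0, 0, 1, 1, 1, 1, 0, 1, 0, 1, 0, 0, 0, 1, 1, 0, 0, 1, 1],
    [0, 0, 0, 0, 0, 0, 0, 0, 1, 0, 1, 1, 0, 0, 0, 0, 0, 0, 0, 0, 0, 0, 0, 0, 0, 0, 0, 0, 0, 0, 0, 0, 0, 0, 0, 0, 0, 0, 0, 0, 0, 0, 0, 0, 1, 0, 0, 0, 0, 0, 0, 0, 0, 0, 0, 0, 0, 0, 0, 0, 0, 1, 0, 0, 0, 1, 0, 0, 0, 1, 0, 1, 0, 0, 0, 1, 0, 1],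
    [0, 0, 0, 0, 0, 0, 0, 0, 0, 0, 0, 0, 0, 0, 0, 0, 0, 0, 0, 0, 0, 0, 0, 0, 0, 0, 0, 0, 0, 1, 0, 0, 0, 0, 0, 0, 0, 1, 0, 1, 1, 0, 1, 0, 0, 0, 1, 0, 0, 0, 0, 0, 1, 0, 1, 0, 0, 1, 0, 1, 0, 1, 0, 0, 1, 1, 1, 1, 0, 1, 0, 0, 0, 0, 0, 0, 1, 1],
    [0, 0, 0, 0, 0, 0, 0, 0, 0, 0, 0, 1, 0, 0, 0, 0, 0, 0, 0, 0, 0, 0, 0, 0, 0, 0, 0, 0, 0, 0, 0, 0, 0, 0, 0, 0, 0, 1, 0, 0, 0, 1, 1, 0, 0, 0, 0, 0, 0, 0, 0, 0, 1, 0, 0, 0, 0, 0, 1, 1, 0, 0, 0, 0, 0, 0, 0, 0, 1, 0, 0, 1, 0, 0, 1, 1, 1, 1],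
    [0, 0, 0, 0, 0, 0, 0, 0, 0, 0, 0, 0, 0, 0, 0, 0, 0, 0, 0, 0, 0, 0, 0, 0, 0, 0, 0, 0, 0, 0, 0, 0, 0, 0, 0, 0, 0, 0, 0, 0, 0, 0, 0, 0, 0, 0, 0, 0, 0, 0, 0, 0, 0, 0, 0, 0, 0, 0, 0, 0, 0, 0, 0, 0, 0, 0, 0, 0, 0, 0, 1],
    [0, 0, 0, 0, 0, 0, 0, 0, 0, 0, 0, 0, 0, 0, 0, 0, 0, 0, 0, 0, 0, 0, 0, 0, 0, 0, 0, 0, 0, 0, 0, 1, 0, 0, 0, 0, 0, 0, 0, 0, 0, 0, 0, 0, 0, 0, 0, 0, 0, 0, 0, 0, 0, 0, 0, 0, 0, 0, 0, 0, 0, 0, 0, 0, 0, 0, 0, 0, 0, 0, 0, 1],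
    [0, 0, 0, 0, 0, 0, 0, 0, 0, 0, 0, 0, 0, 0, 0, 0, 0, 0, 0, 0, 0, 0, 0, 0, 0, 0, 0, 0, 0, 0, 1, 0, 0, 0, 0, 0, 0, 0, 0, 0, 0, 0, 0, 1, 0, 0, 0, 0, 0, 0, 0, 0, 1, 0, 1, 0, 1, 0, 0, 0, 1, 1, 0, 1, 0, 1, 1, 0, 0, 0, 1, 1, 0, 0, 0, 0, 0, 1],
    [0, 0, 0, 0, 0, 0, 0, 0, 0, 0, 0, 0, 0, 0, 0, 0, 0, 0, 0, 0, 0, 0, 0, 0, 0, 0, 0, 0, 0, 0, 0, 1, 0, 0, 0, 0, 0, 0, 0, 0, 0, 0, 0, 1, 1, 0, 1, 0, 0, 0, 0, 0, 1, 0, 0, 0, 1, 0, 0, 0, 1, 1, 0, 1, 0, 0, 1, 0, 0, 0, 0, 1, 0, 1, 0, 1, 1],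
    [0, 0, 0, 0, 0, 0, 0, 0, 0, 0, 0, 0, 0, 0, 0, 0, 0, 0, 0, 0, 0, 0, 0, 0, 0, 0, 0, 0, 0, 0, 0, 1, 0, 0, 0, 0, 0, 0, 0, 0, 0, 0, 0, 1, 1, 0, 1, 0, 0, 0, 0, 0, 1, 0, 0, 0, 1, 0, 0, 0, 1, 1, 0, 1, 0, 0, 1, 0, 0, 0, 1, 1],
    [0, 0, 0, 0, 0, 0, 0, 0, 0, 0, 0, 0, 0, 0, 0, 0, 0, 0, 0, 0, 0, 0, 0, 0, 0, 0, 0, 0, 0, 0, 0, 0, 0, 0, 0, 0, 0, 0, 0, 0, 0, 0, 0, 0, 0, 1, 0, 0, 0, 0, 0, 0, 0, 0, 0, 0, 0, 0, 0, 0, 0, 0, 1, 0, 0, 0, 0, 0, 0, 0, 0, 0, 1],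
    [0, 0, 0, 0, 0, 0, 0, 1, 0, 0, 0, 1, 0, 0, 0, 0, 0, 0, 0, 0, 0, 0, 0, 0, 0, 0, 0, 0, 0, 0, 0, 0, 0, 0, 0, 0, 0, 0, 1, 0, 1, 0, 0, 0, 0, 0, 0, 0, 0, 0, 0, 0, 0, 0, 0, 0, 0, 1, 0, 0, 0, 0, 0, 0, 1, 0, 0, 1],
    [0, 0, 0, 0, 0, 0, 0, 1, 0, 0, 0, 0, 0, 0, 0, 0, 0, 0, 0, 0, 0, 0, 0, 0, 1, 1, 0, 0, 0, 0, 0, 0, 1, 1, 0, 0, 0, 0, 0, 0, 0, 0, 0, 1, 0, 1, 1, 0, 0, 0, 0, 0, 0, 1, 1, 0, 1, 0, 0, 0, 1, 0, 1, 0, 0, 1, 0, 0, 0, 0, 0, 0, 1, 0, 0, 1, 1, 1],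
    [0, 0, 0, 0, 0, 0, 1, 1, 0, 1, 1, 0, 0, 0, 0, 0, 0, 0, 0, 0, 0, 0, 0, 0, 0, 0, 0, 0, 0, 0, 0, 0, 1, 0, 0, 0, 0, 0, 1, 1, 0, 1, 0, 0, 0, 0, 0, 0, 0, 0, 0, 0, 0, 1, 1, 1, 0, 0, 1, 0, 0, 0, 0, 0, 1, 0, 0, 0, 1, 0, 0, 0, 1, 1, 1, 1],
    [0, 0, 0, 0, 0, 0, 1, 1, 0, 1, 0, 0, 0, 0, 0, 0, 0, 0, 0, 0, 0, 0, 0, 0, 0, 0, 0, 0, 1, 0, 0, 0, 1, 0, 1, 0, 0, 0, 1, 1, 0, 0, 0, 0, 0, 1, 0, 0, 0, 1, 0, 0, 0, 1, 1, 1, 0, 0, 0, 0, 0, 0, 1, 0, 0, 0, 0, 0, 1, 0, 0, 0, 1, 0, 1, 0, 1, 1],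
    [0, 0, 0, 0, 0, 0, 0, 0, 0, 0, 1, 1, 0, 0, 0, 0, 0, 0, 0, 0, 0, 0, 0, 0, 1, 1, 0, 1, 0, 1, 1, 0, 0, 1, 1, 0, 0, 0, 1, 0, 0, 0, 0, 1, 0, 1, 0, 1, 1, 0, 1, 1, 0, 0, 1, 1, 1, 0, 0, 1, 0, 0, 0, 1, 1, 1, 0, 1, 0, 0, 1, 0, 1, 1],
    [0, 0, 0, 0, 0, 0, 0, 0, 1, 0, 1, 0, 0, 0, 0, 0, 0, 0, 0, 0, 0, 0, 0, 0, 0, 0, 0, 0, 0, 0, 0, 0, 0, 0, 0, 0, 0, 0, 0, 0, 0, 0, 1, 0, 0, 1, 0, 0, 0, 0, 0, 0, 0, 0, 0, 0, 0, 0, 0, 1, 0, 0, 1, 0, 0, 1, 0, 0, 0, 1],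
    [0, 0, 0, 0, 0, 0, 0, 0, 1, 0, 1, 0, 0, 0, 0, 0, 0, 0, 0, 0, 0, 0, 0, 0, 0, 0, 0, 0, 0, 0, 0, 0, 0, 0, 0, 0, 0, 0, 0, 0, 0, 0, 1, 0, 0, 1, 0, 0, 0, 0, 0, 0, 0, 0, 0, 0, 0, 0, 0, 1, 0, 0, 1, 0, 0, 1],
    [0, 0, 0, 0, 0, 0, 0, 0, 1, 0, 1, 1, 0, 0, 0, 0, 0, 0, 0, 0, 0, 0, 0, 0, 0, 0, 1, 0, 0, 0, 0, 0, 1, 0, 0, 1, 0, 1, 1, 1, 1, 0, 0, 0, 0, 0, 1, 1, 0, 0, 0, 0, 0, 1, 0, 1, 1, 1, 0, 0, 0, 1, 0, 0, 1, 1, 0, 0, 0, 0, 0, 1, 0, 1, 1, 1, 1],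
    [0, 0, 0, 0, 0, 0, 0, 0, 1, 0, 1, 0, 0, 0, 0, 0, 0, 0, 0, 0, 0, 0, 0, 0, 0, 0, 1, 0, 0, 1, 0, 1, 0, 0, 0, 1, 0, 1, 1, 1, 0, 1, 0, 0, 0, 0, 0, 1, 0, 0, 1, 0, 1, 1, 1, 0, 0, 0, 1, 0, 0, 1, 0, 1, 0, 1, 1, 0, 0, 1, 0, 1, 0, 1, 0, 1],
    [0, 0, 0, 0, 0, 0, 0, 0, 0, 1, 1, 0, 0, 0, 0, 0, 0, 0, 0, 0, 0, 0, 0, 0, 0, 0, 0, 0, 0, 0, 0, 0, 0, 0, 0, 0, 0, 0, 0, 0, 0, 0, 0, 1, 0, 0, 0, 0, 0, 0, 0, 0, 0, 1, 0, 0, 0, 0, 0, 0, 1, 0, 1, 0, 0, 0, 1, 0, 0, 0, 1, 0, 0, 0, 0, 0, 1, 1],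
    [0, 0, 0, 0, 0, 0, 0, 0, 0, 1, 0, 1, 0, 0, 0, 0, 0, 0, 0, 0, 0, 0, 0, 0, 0, 0, 0, 0, 0, 0, 0, 0, 1, 0, 0, 0, 0, 0, 0, 0, 0, 0, 0, 0, 0, 0, 0, 0, 0, 0, 0, 1, 0, 0, 0, 0, 0, 0, 0, 0, 1, 0, 0, 0, 0, 0, 1, 0, 0, 0, 0, 0, 1, 0, 0, 0, 0, 1],
    [0, 0, 0, 0, 0, 0, 0, 0, 1, 0, 0, 1, 0, 0, 0, 0, 0, 0, 0, 0, 0, 0, 0, 0, 0, 0, 1, 0, 0, 0, 0, 0, 1, 0, 0, 0, 1, 1, 0, 1, 0, 0, 0, 0, 1, 1, 0, 0, 1, 0, 0, 0, 1, 1, 1, 0, 0, 1, 0, 0, 0, 0, 0, 1, 1, 0, 0, 0, 0, 0, 0, 0, 1, 1, 1, 1, 1],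
    [0, 0, 0, 0, 0, 0, 0, 0, 1, 0, 1, 1, 0, 0, 0, 0, 0, 0, 0, 0, 0, 0, 0, 0, 0, 0, 1, 0, 0, 0, 1, 1, 1, 0, 0, 0, 1, 1, 0, 1, 0, 0, 0, 0, 1, 0, 1, 1, 0, 1, 0, 1, 0, 1, 0, 0, 1, 0, 1, 0, 0, 1, 0, 1, 1, 0, 1, 0, 0, 0, 1, 0, 0, 0, 0, 0, 1],
    [0, 0, 0, 0, 0, 0, 0, 0, 0, 0, 1, 1, 0, 0, 0, 0, 0, 0, 0, 0, 0, 0, 0, 0, 0, 0, 0, 0, 0, 0, 0, 0, 1, 0, 0, 0, 0, 0, 0, 0, 0, 0, 0, 1, 0, 1, 1, 0, 0, 0, 1, 0, 0, 1, 1, 0, 1, 0, 0, 1, 1, 0, 1, 0, 0, 0, 0, 0, 0, 0, 0, 0, 1, 1, 0, 1, 1],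
    [0, 0, 0, 0, 0, 0, 0, 0, 1, 0, 1, 0, 0, 0, 0, 0, 0, 0, 0, 0, 0, 0, 0, 0, 0, 0, 0, 0, 0, 0, 0, 0, 0, 0, 0, 0, 0, 0, 0, 0, 0, 0, 0, 0, 1, 1, 0, 0, 0, 0, 0, 0, 0, 0, 0, 0, 0, 0, 0, 0, 0, 1, 1, 0, 0, 1, 0, 0, 0, 0, 0, 1],
    [0, 0, 0, 0, 0, 0, 0, 0, 0, 0, 1, 1, 0, 0, 0, 0, 0, 0, 0, 0, 0, 0, 0, 0, 0, 0, 0, 0, 0, 0, 0, 0, 1, 0, 0, 0, 0, 1, 0, 1, 1, 0, 0, 0, 0, 1, 1, 0, 0, 0, 0, 0, 0, 0, 0, 0, 0, 1, 0, 0, 0, 0, 1, 1, 1, 0, 0, 0, 0, 0, 0, 0, 1, 0, 0, 1],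
    [0, 0, 0, 0, 0, 0, 0, 0, 0, 0, 0, 0, 0, 0, 0, 0, 0, 0, 0, 0, 0, 0, 0, 0, 0, 0, 0, 0, 0, 0, 0, 1, 0, 0, 0, 0, 0, 1, 0, 0, 0, 1, 0, 0, 0, 1, 0, 0, 0, 0, 0, 0, 1, 0, 0, 0, 0, 0, 1, 0, 0, 0, 1, 0, 0, 0, 0, 0, 0, 0, 0, 1, 0, 0, 0, 1, 0, 1],
    [0, 0, 0, 0, 0, 0, 0, 0, 0, 0, 0, 0, 0, 0, 0, 0, 0, 0, 0, 0, 0, 0, 0, 0, 0, 0, 0, 0, 0, 0, 0, 0, 0, 0, 0, 0, 0, 0, 0, 0, 0, 0, 0, 1, 0, 0, 0, 0, 0, 0, 0, 0, 1, 0, 0, 0, 1, 0, 0, 0, 1, 1, 0, 0, 0, 1, 1],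
    [0, 0, 0, 0, 0, 0, 0, 0, 0, 0, 1, 0, 0, 0, 0, 0, 0, 0, 0, 0, 0, 0, 0, 0, 0, 0, 0, 0, 0, 0, 0, 0, 0, 0, 0, 0, 0, 0, 0, 0, 0, 0, 0, 0, 0, 0, 0, 0, 0, 0, 0, 0, 0, 0, 0, 0, 0, 0, 0, 0, 0, 0, 0, 1],
    [0, 0, 0, 0, 0, 0, 0, 0, 0, 0, 0, 0, 0, 0, 0, 0, 0, 0, 0, 0, 0, 0, 0, 0, 0, 0, 0, 0, 0, 1, 1, 0, 1, 0, 0, 0, 0, 0, 0, 0, 0, 0, 0, 0, 0, 0, 0, 0, 0, 0, 0, 0, 0, 0, 0, 0, 0, 1, 0, 0, 1, 0, 1, 1, 0, 0, 0, 0, 0, 0, 0, 0, 0, 1],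
    [0, 0, 0, 0, 0, 0, 0, 0, 0, 0, 1, 0, 0, 0, 0, 0, 0, 0, 0, 0, 0, 0, 0, 0, 0, 0, 0, 0, 0, 1, 1, 0, 1, 0, 0, 0, 0, 0, 0, 1, 0, 0, 0, 0, 0, 0, 0, 0, 0, 0, 0, 0, 0, 0, 0, 0, 0, 1, 1, 0, 1, 0, 1, 0, 0, 0, 0, 1, 0, 0, 0, 0, 0, 1, 1],
    [0, 0, 0, 0, 0, 0, 0, 0, 0, 0, 1, 0, 0, 0, 0, 0, 0, 0, 0, 0, 0, 0, 0, 0, 0, 0, 0, 0, 0, 0, 0, 0, 0, 0, 0, 0, 0, 0, 0, 0, 0, 0, 0, 0, 0, 0, 1, 0, 0, 0, 0, 0, 0, 0, 0, 0, 0, 0, 0, 1, 0, 0, 0, 1],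
    [0, 1, 0, 0, 1, 0, 1, 0, 1, 0, 0, 1, 0, 1, 0, 1, 0, 0, 1, 0, 1, 0, 1, 1, 1, 0, 0, 0, 1, 1, 1, 1, 1, 0, 1, 0, 1, 0, 0, 1, 0, 1, 1, 1, 1, 0, 0, 1, 1, 1, 0, 0, 0, 1, 0, 0, 1, 0, 0, 1, 1, 0, 0, 0, 0, 0, 0, 1, 0, 0, 1, 1, 0, 1, 0, 0, 1, 1, 0, 0, 1, 1, 0, 1, 1, 1, 0, 1, 1],
    [0, 1, 1, 1, 1, 1, 0, 0, 0, 1, 0, 1, 0, 0, 0, 0, 0, 1, 1, 1, 0, 0, 0, 1, 1, 0, 1, 1, 0, 1, 1, 1, 0, 1, 1, 1, 1, 1, 0, 1, 0, 1, 0, 1, 0, 0, 1, 0, 0, 1, 1, 1, 1, 0, 0, 0, 1, 0, 1, 0, 1, 1, 1, 0, 0, 0, 1, 1, 0, 0, 0, 1, 1, 1, 1, 1, 1, 1, 0, 0, 1, 1, 0, 0, 1, 0, 1, 1],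
    [0, 1, 1, 1, 1, 1, 1, 0, 0, 1, 1, 0, 1, 0, 0, 0, 0, 1, 0, 1, 0, 0, 1, 0, 0, 0, 1, 1, 1, 1, 1, 0, 1, 0, 1, 1, 1, 1, 1, 1, 1, 0, 0, 1, 1, 0, 0, 1, 1, 1, 1, 1, 0, 1, 1, 0, 0, 1, 0, 1, 0, 1, 1, 1, 1, 1, 1, 1, 0, 0, 1, 1, 0, 1, 0, 0, 0, 1, 0, 0, 0, 0, 1, 1, 1, 0, 1],
    [0, 1, 1, 1, 0, 1, 1, 1, 0, 0, 0, 0, 0, 0, 1, 0, 1, 0, 0, 0, 0, 1, 0, 0, 0, 1, 0, 0, 1, 0, 1, 0, 0, 0, 1, 0, 1, 1, 1, 0, 0, 0, 1, 1, 1, 1, 1, 0, 0, 0, 0, 0, 0, 0, 1, 0, 1, 0, 0, 1, 1, 0, 1, 1, 0, 0, 0, 0, 0, 1, 0, 1, 0, 1, 0, 1, 1, 1, 0, 0, 0, 0, 1, 1, 1, 1, 0, 0, 1],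
    [0, 0, 0, 0, 1, 0, 0, 0, 0, 0, 1, 0, 1, 0, 1, 0, 1, 0, 0, 1, 1, 0, 1, 0, 1, 1, 0, 0, 0, 1, 1, 1, 1, 0, 0, 1, 0, 0, 1, 0, 0, 0, 1, 0, 0, 0, 1, 1, 0, 1, 1, 0, 0, 1, 1, 1, 1, 1, 0, 1, 0, 0, 1, 0, 0, 0, 1, 0, 1, 0, 0, 0, 0, 0, 0, 1, 0, 1, 0, 0, 0, 0, 0, 1, 0, 0, 0, 1],
    [0, 0, 0, 0, 1, 0, 1, 1, 1, 0, 0, 0, 0, 1, 0, 1, 0, 0, 0, 0, 1, 0, 1, 0, 1, 1, 1, 1, 0, 0, 1, 1, 1, 1, 0, 1, 0, 0, 1, 1, 1, 0, 0, 1, 0, 1, 1, 1, 0, 0, 0, 1, 1, 1, 0, 0, 0, 0, 0, 1, 0, 1, 1, 0, 1, 1, 0, 1, 0, 1, 0, 0, 0, 1, 1, 1, 0, 1, 0, 0, 0, 0, 0, 0, 0, 0, 0, 0, 1],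
    [0, 0, 0, 0, 0, 0, 0, 0, 0, 0, 1, 0, 0, 0, 0, 0, 0, 0, 1, 0, 1, 1, 0, 0, 0, 0, 0, 1, 0, 0, 0, 0, 0, 1, 0, 1, 1, 1, 0, 1, 1, 0, 0, 0, 1, 1, 1, 0, 0, 0, 1, 1, 0, 0, 0, 1, 1, 1, 0, 0, 0, 0, 1, 0, 1, 0, 1, 1, 0, 0, 1, 1, 1, 0, 0, 0, 1, 1, 0, 0, 0, 0, 0, 0, 0, 0, 0, 1, 1],
    [0, 0, 0, 0, 1, 0, 1, 1, 1, 0, 1, 0, 0, 0, 0, 0, 0, 0, 0, 1, 0, 0, 0, 0, 0, 0, 1, 0, 1, 0, 0, 0, 1, 0, 1, 0, 0, 0, 1, 1, 0, 0, 0, 0, 1, 1, 1, 1, 0, 0, 0, 0, 1, 0, 0, 0, 1, 0, 0, 0, 0, 1, 1, 1, 1, 1, 1, 0, 1, 0, 0, 0, 1, 1, 0, 0, 1],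
    [0, 1, 1, 1, 0, 1, 0, 1, 0, 0, 1, 1, 0, 0, 0, 0, 0, 1, 0, 0, 1, 0, 0, 1, 0, 0, 1, 0, 0, 1, 0, 0, 1, 0, 1, 1, 1, 0, 1, 1, 0, 1, 1, 0, 1, 0, 1, 1, 0, 0, 0, 0, 1, 1, 0, 0, 1, 0, 0, 1, 1, 0, 1, 1, 1, 0, 0, 0, 0, 0, 1, 1, 0, 0, 1, 0, 0, 1, 0, 0, 0, 0, 1, 0, 1, 0, 1, 1, 1],
    [0, 1, 0, 0, 0, 1, 1, 1, 0, 0, 0, 1, 0, 0, 1, 0, 0, 0, 0, 0, 1, 0, 0, 1, 1, 0, 0, 0, 1, 0, 0, 1, 0, 0, 0, 0, 0, 1, 1, 1, 0, 1, 0, 0, 1, 1, 0, 0, 0, 1, 1, 0, 1, 0, 1, 1, 1, 0, 1, 1, 0, 0, 1, 0, 0, 1, 1, 0, 1, 0, 0, 1, 0, 1, 0, 1, 1, 0, 0, 0, 0, 0, 0, 0, 0, 1, 0, 1],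
    [0, 0, 1, 1, 0, 1, 0, 0, 0, 1, 1, 1, 0, 0, 0, 0, 1, 1, 0, 0, 1, 0, 0, 1, 1, 0, 1, 0, 0, 0, 0, 0, 1, 0, 0, 0, 1, 1, 0, 0, 0, 0, 1, 1, 1, 1, 0, 1, 0, 0, 1, 1, 1, 1, 0, 0, 0, 0, 0, 0, 1, 1, 1, 1, 1, 1, 0, 0, 0, 0, 0, 1, 1, 1, 0, 0, 0, 0, 0, 0, 0, 0, 0, 1, 0, 0, 1, 1, 1],
    [0, 0, 1, 0, 1, 0, 1, 1, 1, 0, 0, 0, 0, 1, 1, 0, 0, 0, 0, 1, 1, 0, 0, 0, 0, 0, 0, 1, 0, 1, 0, 0, 0, 1, 0, 0, 0, 1, 0, 0, 0, 0, 0, 0, 0, 0, 0, 0, 0, 0, 0, 0, 1, 0, 0, 1, 1, 0, 1, 0, 0, 1, 0, 1, 0, 1, 0, 0, 1, 0, 0, 0, 0, 0, 1, 1, 1, 0, 0, 0, 0, 0, 0, 0, 0, 0, 0, 0, 0, 0, 0, 0, 0, 0, 1, 1, 1],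
    [1, 1, 0, 1, 0, 1, 0, 0, 1, 0, 0, 0, 1, 0, 1, 0, 1, 1, 1, 1, 0, 1, 0, 1, 1, 1, 0, 0, 0, 0, 0, 0, 0, 0, 1, 0, 1, 0, 1, 0, 0, 1, 0, 1, 1, 1, 1, 0, 1, 0, 1, 1, 1, 0, 0, 0, 1, 1, 1, 1, 1, 0, 0, 0, 1, 1, 0, 1, 1, 1, 0, 0, 1, 1, 1, 0, 0, 0, 0, 0, 0, 0, 0, 0, 0, 0, 0, 0, 0, 0, 0, 0, 0, 0, 1, 1, 1, 1, 1],
    [1, 1, 0, 1, 0, 1, 1, 0, 1, 0, 1, 1, 1, 1, 0, 1, 0, 1, 0, 0, 1, 0, 1, 0, 1, 1, 1, 0, 1, 1, 1, 1, 1, 0, 1, 0, 1, 1, 1, 1, 1, 0, 1, 0, 1, 0, 1, 0, 1, 0, 0, 0, 0, 1, 1, 1, 0, 1, 1, 0, 1, 0, 0, 0, 1, 1, 0, 0, 0, 1, 0, 0, 1, 1, 1, 1, 1, 0, 0, 0, 0, 0, 0, 0, 0, 0, 0, 0, 0, 0, 0, 0, 0, 0, 1, 1, 1, 1],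
    [1, 1, 0, 1, 1, 1, 0, 1, 0, 1, 1, 1, 1, 1, 0, 0, 1, 1, 0, 1, 0, 1, 0, 1, 1, 1, 0, 0, 0, 0, 0, 1, 0, 0, 0, 1, 1, 0, 1, 0, 0, 0, 0, 1, 1, 1, 0, 0, 1, 1, 1, 1, 1, 0, 1, 0, 0, 0, 1, 0, 1, 0, 0, 0, 0, 1, 0, 1, 1, 0, 0, 1, 1, 1, 1, 1, 1, 0, 0, 0, 0, 0, 0, 0, 0, 0, 0, 0, 0, 0, 0, 0, 0, 0, 1, 1, 1, 1, 1],
    [0, 0, 0, 0, 0, 0, 0, 0, 1, 0, 0, 1, 0, 0, 0, 0, 0, 0, 0, 0, 1, 0, 0, 0, 0, 0, 0, 0, 0, 1, 0, 1, 0, 0, 0, 1, 0, 1, 0, 0, 1, 1, 0, 0, 0, 0, 1, 0, 0, 0, 1, 0, 1, 0, 0, 0, 0, 0, 1, 1, 0, 1, 0, 0, 0, 0, 1, 0, 1, 1, 0, 0, 0, 1, 1, 1, 0, 0, 0, 0, 0, 0, 0, 0, 0, 0, 0, 0, 0, 0, 0, 0, 0, 0, 0, 0, 0, 1],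
    [1, 1, 0, 1, 0, 1, 0, 1, 1, 0, 0, 1, 1, 1, 0, 0, 1, 1, 1, 0, 1, 1, 0, 1, 1, 1, 0, 0, 1, 1, 0, 1, 0, 1, 1, 1, 1, 1, 1, 1, 1, 1, 0, 1, 0, 1, 1, 1, 0, 1, 0, 1, 0, 0, 1, 0, 0, 0, 1, 1, 1, 0, 0, 0, 0, 0, 1, 0, 1, 0, 0, 0, 1, 1, 1, 0, 1, 1, 0, 0, 0, 0, 0, 0, 0, 0, 0, 0, 0, 0, 0, 0, 0, 0, 0, 0, 0, 0, 1],
    [0, 0, 0, 0, 1, 0, 1, 1, 0, 1, 0, 0, 0, 0, 1, 0, 1, 0, 0, 0, 0, 1, 0, 1, 1, 1, 0, 0, 1, 1, 1, 0, 1, 0, 0, 0, 1, 1, 1, 0, 0, 1, 1, 0, 0, 1, 0, 1, 0, 1, 1, 0, 0, 0, 1, 0, 0, 0, 0, 1, 0, 1, 1, 1, 1, 0, 0, 0, 0, 1, 0, 0, 1, 1, 0, 0, 1, 1],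
    [0, 0, 1, 0, 1, 1, 1, 1, 0, 1, 1, 0, 0, 1, 1, 0, 0, 0, 0, 1, 0, 0, 1, 1, 1, 0, 0, 0, 1, 0, 0, 0, 1, 1, 1, 1, 0, 0, 1, 0, 0, 0, 0, 0, 0, 1, 1, 1, 1, 1, 1, 0, 0, 1, 0, 0, 0, 0, 0, 1, 0, 1, 0, 0, 1, 1, 0, 1, 0, 0, 0, 0, 0, 1, 1, 0, 0, 1, 0, 0, 0, 0, 0, 0, 0, 0, 0, 0, 0, 0, 0, 0, 0, 0, 0, 0, 0, 0, 0, 0, 0, 0, 0, 0, 0, 0, 0, 0, 0, 0, 0, 0, 0, 0, 0, 0, 0, 0, 0, 1],
    [0, 0, 0, 0, 1, 0, 0, 0, 1, 0, 1, 1, 0, 1, 1, 0, 0, 0, 0, 1, 0, 0, 1, 1, 1, 0, 0, 0, 1, 1, 0, 0, 1, 1, 1, 1, 0, 1, 0, 1, 1, 0, 0, 0, 0, 0, 1, 0, 1, 1, 1, 0, 1, 0, 1, 1, 1, 1, 0, 0, 0, 0, 1, 0, 1, 1, 0, 1, 1, 0, 0, 0, 1, 1, 0, 1, 1, 1, 0, 0, 0, 0, 0, 0, 0, 0, 0, 0, 0, 0, 0, 0, 0, 0, 0, 0, 0, 0, 0, 0, 0, 0, 0, 0, 0, 0, 0, 0, 0, 0, 0, 0, 0, 0, 0, 0, 0, 0, 0, 1, 0, 1, 0, 1],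
    [0, 0, 0, 0, 1, 0, 0, 0, 1, 0, 1, 1, 0, 1, 1, 0, 0, 1, 1, 0, 1, 0, 1, 1, 0, 1, 1, 0, 0, 1, 0, 1, 1, 1, 1, 0, 1, 0, 0, 1, 1, 1, 1, 0, 1, 0, 1, 1, 1, 1, 0, 1, 0, 1, 0, 0, 1, 0, 0, 1, 1, 0, 1, 1, 0, 1, 0, 0, 1, 1, 0, 0, 0, 1, 1, 0, 1, 1, 0, 0, 0, 0, 0, 0, 0, 0, 0, 0, 0, 0, 0, 0, 0, 0, 0, 0, 0, 0, 0, 0, 0, 0, 0, 0, 0, 0, 0, 0, 0, 0, 0, 0, 0, 0, 0, 0, 0, 0, 0, 0, 0, 0, 0, 0, 1],
    [0, 0, 0, 0, 1, 0, 1, 0, 0, 0, 0, 0, 0, 1, 1, 0, 0, 0, 0, 1, 1, 0, 1, 1, 0, 0, 1, 0, 1, 1, 0, 1, 1, 1, 1, 0, 0, 0, 0, 0, 1, 0, 1, 0, 0, 1, 1, 1, 1, 1, 0, 0, 0, 0, 0, 1, 1, 1, 1, 0, 0, 0, 1, 1, 0, 0, 1, 0, 0, 1, 0, 1, 0, 0, 0, 1, 1, 0, 0, 0, 0, 0, 0, 0, 0, 0, 0, 0, 0, 0, 0, 0, 0, 0, 0, 0, 0, 0, 0, 0, 0, 0, 0, 0, 0, 0, 0, 0, 0, 0, 0, 0, 0, 0, 0, 0, 0, 0, 0, 1, 0, 0, 0, 1, 1],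
    [0, 0, 0, 0, 1, 0, 1, 1, 0, 1, 1, 0, 0, 1, 1, 0, 0, 0, 1, 0, 1, 0, 0, 0, 0, 0, 1, 0, 0, 1, 0, 1, 1, 0, 1, 1, 0, 0, 1, 1, 1, 0, 0, 0, 0, 1, 0, 1, 0, 1, 0, 0, 0, 0, 1, 0, 1, 1, 0, 1, 0, 0, 0, 0, 1, 0, 1, 0, 1, 0, 0, 1, 0, 0, 0, 1, 1, 0, 0, 0, 0, 0, 0, 0, 0, 0, 0, 0, 0, 0, 0, 0, 0, 0, 0, 0, 0, 0, 0, 0, 0, 0, 0, 0, 0, 0, 0, 0, 0, 0, 0, 0, 0, 0, 0, 0, 0, 0, 0, 1, 0, 0, 1, 1],
    [0, 0, 0, 0, 0, 0, 0, 0, 0, 0, 0, 0, 0, 0, 0, 0, 0, 0, 0, 0, 0, 0, 0, 0, 0, 0, 0, 0, 0, 0, 0, 0, 0, 0, 0, 0, 0, 0, 0, 0, 0, 0, 1, 0, 0, 1, 0, 1, 0, 0, 0, 0, 0, 0, 0, 0, 1, 1, 1, 0, 0, 0, 0, 0, 0, 0, 0, 0, 1, 0, 0, 0, 0, 0, 0, 1, 0, 1, 0, 0, 0, 0, 0, 0, 0, 0, 0, 0, 0, 0, 0, 0, 0, 0, 0, 0, 0, 0, 0, 0, 0, 0, 0, 0, 0, 0, 0, 0, 0, 0, 0, 0, 0, 0, 0, 0, 0, 0, 0, 0, 0, 0, 0, 1],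
    [0, 0, 0, 0, 0, 0, 0, 0, 0, 0, 0, 1, 0, 0, 0, 0, 0, 0, 0, 0, 0, 0, 0, 0, 0, 0, 0, 0, 0, 0, 0, 0, 0, 0, 0, 0, 0, 0, 0, 0, 0, 0, 0, 0, 0, 0, 0, 0, 0, 0, 1, 0, 0, 1, 0, 1, 0, 1, 1, 0, 0, 0, 1, 0, 1, 0, 1, 0, 1, 1, 0, 0, 0, 0, 1, 0, 0, 0, 0, 0, 0, 0, 0, 0, 0, 0, 0, 0, 0, 0, 0, 0, 0, 0, 0, 0, 0, 0, 0, 0, 0, 0, 0, 0, 0, 0, 0, 0, 0, 0, 0, 0, 0, 0, 0, 0, 0, 0, 0, 0, 0, 0, 0, 1, 1],
    [0, 0, 0, 0, 0, 0, 1, 1, 0, 0, 0, 0, 0, 0, 0, 0, 0, 1, 0, 0, 0, 0, 1, 1, 0, 1, 1, 0, 0, 0, 1, 1, 0, 1, 0, 0, 1, 1, 0, 1, 1, 0, 0, 0, 1, 1, 0, 0, 1, 0, 0, 1, 0, 0, 1, 1, 0, 1, 0, 0, 0, 1, 0, 0, 0, 0, 0, 1, 1, 0, 0, 1, 1, 0, 1, 1, 0, 0, 0, 0, 0, 0, 0, 0, 0, 0, 0, 0, 0, 0, 0, 0, 0, 0, 0, 0, 0, 0, 0, 0, 0, 0, 0, 0, 0, 0, 0, 0, 0, 0, 0, 0, 0, 0, 0, 0, 0, 0, 0, 1, 0, 1, 1, 1, 1],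
    [0, 0, 0, 0, 1, 0, 1, 0, 0, 0, 0, 1, 0, 1, 1, 0, 0, 0, 0, 1, 0, 0, 1, 1, 1, 0, 0, 0, 1, 0, 0, 0, 1, 1, 1, 1, 0, 1, 0, 1, 0, 1, 1, 0, 1, 1, 1, 1, 1, 1, 1, 0, 0, 1, 0, 0, 0, 0, 0, 1, 0, 0, 0, 0, 0, 0, 1, 0, 0, 1, 0, 0, 1, 1, 0, 0, 0, 1, 0, 0, 0, 0, 0, 0, 0, 0, 0, 0, 0, 0, 0, 0, 0, 0, 0, 0, 0, 0, 0, 0, 0, 0, 0, 0, 0, 0, 0, 0, 0, 0, 0, 0, 0, 0, 0, 0, 0, 0, 0, 0, 0, 0, 0, 0, 0, 0, 0, 0, 0, 0, 0, 0, 1],
    [0, 0, 0, 0, 0, 0, 1, 1, 1, 1, 0, 1, 0, 0, 0, 0, 0, 0, 1, 1, 0, 0, 1, 1, 0, 0, 1, 0, 1, 0, 0, 0, 1, 1, 0, 0, 0, 1, 0, 1, 0, 0, 0, 0, 1, 1, 0, 1, 0, 1, 0, 0, 1, 1, 1, 1, 0, 0, 1, 0, 0, 1, 1, 0, 1, 0, 0, 0, 1, 0, 0, 1, 1, 1, 1, 1, 1],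
    [0, 0, 0, 0, 0, 0, 0, 0, 1, 0, 1, 0, 0, 0, 0, 0, 0, 0, 0, 0, 0, 0, 0, 0, 0, 0, 0, 0, 0, 0, 0, 1, 1, 0, 0, 0, 0, 0, 0, 1, 0, 0, 1, 0, 0, 0, 1, 0, 0, 0, 1, 0, 0, 1, 1, 1, 0, 0, 0, 0, 0, 1, 1, 0, 0, 1, 1, 0, 0, 0, 0, 1, 1, 0, 1, 0, 0, 0, 0, 0, 0, 0, 0, 0, 0, 0, 0, 0, 0, 0, 0, 0, 0, 0, 0, 0, 0, 0, 0, 0, 0, 0, 0, 0, 0, 0, 0, 0, 0, 0, 0, 0, 0, 0, 0, 0, 0, 0, 0, 0, 0, 0, 0, 0, 0, 0, 0, 0, 0, 0, 0, 0, 1]]
  tgt := [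
    ([], []),
    ([], []),
    ([], []),
    ([], []),
    ([], []),
    ([], [(0, 1), (3, 1), (6, 1), (7, 1), (8, 1), (9, 1), (11, 1), (17, 1), (22, 1), (24, 1), (26, 1), (27, 1), (33, 1), (34, 1), (35, 1), (36, 1), (38, 1), (39, 1), (40, 1), (43, 1), (45, 1), (46, 1), (48, 1), (49, 1), (54, 1), (55, 1), (56, 1), (57, 1), (58, 1), (59, 1), (60, 1), (61, 1), (62, 1), (63, 1), (74, 1), (75, 1), (77, 1), (78, 1), (80, 1), (83, 1), (85, 1)]),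
    ([], [(0, 1), (1, 1), (2, 1), (3, 1), (5, 1), (6, 1), (10, 1), (13, 1), (14, 1), (15, 1), (16, 1), (17, 1), (19, 1), (23, 1), (26, 1), (27, 1), (28, 1), (31, 1), (33, 1), (37, 1), (38, 1), (39, 1), (42, 1), (47, 1), (48, 1), (49, 1), (51, 1), (52, 1), (55, 1)]),
    ([], [(1, 1), (2, 1), (4, 1), (6, 1), (8, 1), (10, 1), (13, 1), (15, 1), (17, 1), (19, 1), (21, 1), (26, 1), (28, 1), (29, 1), (31, 1), (33, 1), (34, 1), (39, 1), (41, 1), (42, 1), (43, 1), (46, 1), (49, 1), (53, 1), (54, 1), (56, 1), (57, 1), (58, 1), (59, 1), (60, 1), (61, 1), (62, 1), (63, 1), (69, 1), (71, 1), (74, 1), (77, 1), (80, 1), (81, 1), (84, 1)]),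
    ([], [(1, 1), (4, 1), (5, 1), (8, 1), (9, 1), (11, 1), (12, 1), (17, 1), (22, 1), (23, 1), (24, 1), (27, 1), (29, 1), (32, 1), (39, 1), (41, 1), (43, 1), (46, 1), (47, 1), (48, 1), (49, 1), (51, 1), (54, 1), (55, 1)]),
    ([], [(1, 1), (5, 1), (7, 1), (9, 1), (10, 1), (11, 1), (13, 1), (15, 1), (17, 1), (26, 1), (27, 1), (29, 1), (30, 1), (31, 1), (32, 1), (33, 1), (36, 1), (37, 1), (40, 1), (43, 1), (47, 1), (51, 1)]),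
    ([], [(1, 1), (4, 1), (5, 1), (7, 1), (9, 1), (10, 1), (11, 1), (12, 1), (13, 1), (14, 1), (16, 1), (19, 1), (22, 1), (27, 1), (28, 1), (37, 1), (38, 1), (39, 1), (40, 1), (41, 1), (43, 1), (46, 1), (47, 1), (48, 1), (54, 1), (55, 1)]),
    ([], [(0, 1), (1, 1), (2, 1), (3, 1), (4, 1), (5, 1), (7, 1), (10, 1), (11, 1), (12, 1), (13, 1), (14, 1), (15, 1), (17, 1), (18, 1), (19, 1), (22, 1), (25, 1), (29, 1), (34, 1), (35, 1), (37, 1), (42, 1), (43, 1), (44, 1), (48, 1), (51, 1)]),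
    ([], []),
    ([], []),
    ([], [(1, 1), (4, 1), (5, 1), (7, 1), (9, 1), (11, 1), (12, 1), (13, 1), (14, 1), (16, 1), (19, 1), (25, 1), (26, 1), (27, 1), (28, 1), (30, 1), (31, 1), (32, 1), (37, 1), (41, 1), (46, 1), (48, 1), (50, 1), (53, 1), (54, 1), (55, 1), (57, 1), (58, 1), (59, 1), (60, 1), (61, 1), (62, 1), (63, 1), (64, 1), (75, 1), (76, 1), (77, 1), (79, 1), (80, 1), (82, 1), (83, 1), (84, 1), (85, 1)]),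
    ([], [(0, 1), (1, 1), (2, 1), (6, 1), (7, 1), (8, 1), (9, 1), (11, 1), (14, 1), (15, 1), (18, 1), (19, 1), (20, 1), (22, 1), (23, 1), (24, 1), (26, 1), (32, 1), (33, 1), (34, 1), (36, 1), (37, 1), (38, 1), (39, 1), (40, 1), (41, 1), (42, 1), (45, 1), (48, 1), (49, 1), (51, 1), (52, 1), (54, 1), (57, 1), (58, 1), (66, 1), (67, 1), (68, 1), (69, 1), (70, 1), (71, 1), (72, 1), (75, 1), (77, 1), (78, 1), (80, 1), (83, 1), (84, 1), (85, 1)]),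
    ([], []),
    ([], [(0, 1), (3, 1), (5, 1), (7, 1), (8, 1), (9, 1), (13, 1), (18, 1), (19, 1), (21, 1), (23, 1), (24, 1), (27, 1), (29, 1), (30, 1), (31, 1), (32, 1), (38, 1), (39, 1), (41, 1), (42, 1), (43, 1), (44, 1), (47, 1), (48, 1), (51, 1), (52, 1), (54, 1), (55, 1), (60, 1), (63, 1), (64, 1), (65, 1), (66, 1), (67, 1), (68, 1), (71, 1), (72, 1), (73, 1), (75, 1), (76, 1), (79, 1), (81, 1), (82, 1), (83, 1), (85, 1)]),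
    ([], [(0, 1), (1, 1), (2, 1), (6, 1), (9, 1), (10, 1), (13, 1), (14, 1), (17, 1), (18, 1), (20, 1), (21, 1), (22, 1), (23, 1), (24, 1), (25, 1), (26, 1), (29, 1), (34, 1), (50, 1), (52, 1), (53, 1), (54, 1), (59, 1), (61, 1), (62, 1), (64, 1), (65, 1), (68, 1), (69, 1), (72, 1), (73, 1), (75, 1), (76, 1), (79, 1), (81, 1), (82, 1), (83, 1), (85, 1)]),
    ([], [(1, 1), (2, 1), (3, 1), (4, 1), (5, 1), (6, 1), (8, 1), (11, 1), (13, 1), (14, 1), (15, 1), (17, 1), (18, 1), (19, 1), (20, 1), (22, 1), (24, 1), (25, 1), (27, 1), (28, 1), (32, 1), (33, 1), (34, 1), (35, 1), (37, 1), (38, 1), (40, 1), (42, 1), (43, 1), (45, 1), (46, 1), (47, 1), (50, 1), (52, 1), (54, 1), (55, 1), (59, 1), (61, 1), (62, 1), (65, 1), (68, 1), (71, 1), (72, 1), (73, 1), (74, 1), (76, 1), (77, 1), (78, 1), (79, 1), (80, 1), (81, 1), (82,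 1), (83, 1), (84, 1), (85, 1)]),
    ([], [(0, 1), (1, 1), (2, 1), (3, 1), (5, 1), (6, 1), (7, 1), (8, 1), (9, 1), (10, 1), (17, 1), (18, 1), (19, 1), (20, 1), (24, 1), (26, 1), (29, 1), (30, 1), (31, 1), (32, 1), (33, 1), (34, 1), (40, 1), (46, 1), (47, 1), (48, 1), (50, 1), (51, 1), (52, 1), (55, 1), (56, 1), (68, 1), (69, 1), (72, 1), (73, 1)]),
    ([], [(0, 1), (1, 1), (9, 1), (10, 1), (11, 1), (12, 1), (14, 1), (18, 1), (19, 1), (23, 1), (26, 1), (27, 1), (29, 1), (34, 1), (35, 1), (37, 1), (41, 1), (42, 1), (44, 1), (46, 1), (48, 1), (49, 1), (53, 1), (55, 1), (56, 1), (59, 1), (61, 1), (62, 1), (65, 1), (69, 1), (71, 1), (74, 1), (76, 1), (77, 1), (78, 1), (79, 1), (80, 1), (81, 1), (82, 1), (83, 1), (84, 1), (85, 1)]),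
    ([], [(0, 1), (2, 1), (3, 1), (4, 1), (5, 1), (6, 1), (10, 1), (11, 1), (12, 1), (13, 1), (18, 1), (26, 1), (31, 1), (32, 1), (33, 1), (36, 1), (37, 1), (39, 1), (42, 1), (43, 1), (45, 1), (46, 1), (47, 1), (50, 1), (54, 1), (55, 1), (56, 1), (64, 1), (69, 1), (71, 1), (74, 1), (84, 1)]),
    ([], [(1, 1), (2, 1), (3, 1), (5, 1), (9, 1), (10, 1), (11, 1), (13, 1), (14, 1), (15, 1), (17, 1), (18, 1), (20, 1), (22, 1), (26, 1), (28, 1), (29, 1), (33, 1), (36, 1), (39, 1), (40, 1), (41, 1), (44, 1), (48, 1), (49, 1), (52, 1), (53, 1), (56, 1), (57, 1), (58, 1), (66, 1), (67, 1), (74, 1), (75, 1), (76, 1), (77, 1), (79, 1), (80, 1), (82, 1)]),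
    ([], [(0, 1), (1, 1), (2, 1), (5, 1), (6, 1), (7, 1), (13, 1), (14, 1), (16, 1), (17, 1), (18, 1), (21, 1), (22, 1), (25, 1), (26, 1), (27, 1), (30, 1), (31, 1), (33, 1), (34, 1), (35, 1), (37, 1), (40, 1), (41, 1), (44, 1), (45, 1), (46, 1), (47, 1), (48, 1), (49, 1), (50, 1), (51, 1), (53, 1), (56, 1), (57, 1), (58, 1), (60, 1), (63, 1), (65, 1), (68, 1), (69, 1), (72, 1), (73, 1), (76, 1), (77, 1), (78, 1), (79, 1), (80, 1), (81, 1), (82, 1)]),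
    ([], [(0, 1), (2, 1), (5, 1), (7, 1), (13, 1), (14, 1), (18, 1), (19, 1), (21, 1), (22, 1), (24, 1), (25, 1), (26, 1), (28, 1), (30, 1), (31, 1), (36, 1), (37, 1), (43, 1), (44, 1), (45, 1), (47, 1), (49, 1), (52, 1), (53, 1), (54, 1), (55, 1), (57, 1), (58, 1), (59, 1), (60, 1), (61, 1), (62, 1), (63, 1), (64, 1), (70, 1), (71, 1), (73, 1), (74, 1), (75, 1), (76, 1), (77, 1), (79, 1), (80, 1), (82, 1)]),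
    ([], [(0, 1), (2, 1), (5, 1), (8, 1), (14, 1), (15, 1), (16, 1), (17, 1), (18, 1), (21, 1), (25, 1), (27, 1), (29, 1), (30, 1), (31, 1), (32, 1), (34, 1), (38, 1), (39, 1), (41, 1), (45, 1), (46, 1), (50, 1), (51, 1), (52, 1), (55, 1), (57, 1), (58, 1), (60, 1), (63, 1), (65, 1), (68, 1), (71, 1), (72, 1), (73, 1), (76, 1), (77, 1), (78, 1), (79, 1), (80, 1), (81, 1), (82, 1), (83, 1), (84, 1), (85, 1)]),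
    ([], [(0, 1), (2, 1), (5, 1), (6, 1), (7, 1), (9, 1), (12, 1), (13, 1), (15, 1), (17, 1), (19, 1), (24, 1), (26, 1), (28, 1), (30, 1), (31, 1), (36, 1), (39, 1), (43, 1), (45, 1), (46, 1), (48, 1), (49, 1), (52, 1), (55, 1), (56, 1), (57, 1), (58, 1), (59, 1), (61, 1), (62, 1), (65, 1), (66, 1), (67, 1), (70, 1), (71, 1), (73, 1), (75, 1), (78, 1), (81, 1), (83, 1), (84, 1), (85, 1)]),
    ([], [(0, 1), (1, 1), (4, 1), (6, 1), (7, 1), (14, 1), (15, 1), (16, 1), (17, 1), (18, 1), (21, 1), (24, 1), (25, 1), (26, 1), (27, 1), (30, 1), (34, 1), (38, 1), (39, 1), (41, 1), (42, 1), (43, 1), (44, 1), (45, 1), (46, 1), (48, 1), (53, 1), (54, 1), (55, 1), (56, 1), (60, 1), (63, 1), (65, 1), (66, 1), (67, 1), (70, 1), (71, 1), (73, 1), (74, 1), (75, 1), (76, 1), (79, 1), (81, 1), (82, 1), (84, 1)]),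
    ([], [(1, 1), (9, 1), (10, 1), (11, 1), (15, 1), (17, 1), (25, 1), (27, 1), (29, 1), (31, 1), (32, 1), (34, 1), (35, 1), (36, 1), (37, 1), (39, 1), (42, 1), (43, 1), (45, 1), (47, 1), (49, 1), (50, 1), (52, 1), (53, 1), (54, 1), (55, 1), (56, 1), (59, 1), (60, 1), (61, 1), (62, 1), (63, 1), (66, 1), (67, 1), (69, 1), (70, 1), (73, 1), (75, 1), (77, 1), (78, 1), (80, 1), (83, 1), (85, 1)]),
    ([], [(10, 1), (29, 1)]),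
    ([], [(20, 1), (30, 1)]),
    ([], [(0, 1), (3, 1), (4, 1), (6, 1), (7, 1), (8, 1), (9, 1), (10, 1), (11, 1), (13, 1), (16, 1), (17, 1), (19, 1), (24, 1), (25, 1), (26, 1), (31, 1), (32, 1), (37, 1), (39, 1), (43, 1), (44, 1), (45, 1), (48, 1), (49, 1), (50, 1), (51, 1), (54, 1), (57, 1), (58, 1), (66, 1), (67, 1), (69, 1), (70, 1), (73, 1), (74, 1), (75, 1), (76, 1), (77, 1), (79, 1), (80, 1), (82, 1)]),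
    ([], [(0, 1), (2, 1), (3, 1), (6, 1), (7, 1), (8, 1), (9, 1), (11, 1), (14, 1), (15, 1), (17, 1), (18, 1), (19, 1), (24, 1), (28, 1), (29, 1), (30, 1), (33, 1), (35, 1), (36, 1), (37, 1), (39, 1), (41, 1), (42, 1), (49, 1), (50, 1), (52, 1), (53, 1), (54, 1), (55, 1), (56, 1), (60, 1), (63, 1), (64, 1), (65, 1), (66, 1), (67, 1), (68, 1), (69, 1), (72, 1), (73, 1), (74, 1), (76, 1), (78, 1), (79, 1), (82, 1), (84, 1)]),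
    ([], [(0, 1), (3, 1), (4, 1), (5, 1), (6, 1), (8, 1), (9, 1), (10, 1), (12, 1), (15, 1), (16, 1), (17, 1), (18, 1), (19, 1), (21, 1), (22, 1), (23, 1), (25, 1), (28, 1), (29, 1), (35, 1), (36, 1), (37, 1), (38, 1), (40, 1), (41, 1), (43, 1), (44, 1), (45, 1), (48, 1), (49, 1), (51, 1), (54, 1), (55, 1), (57, 1), (58, 1), (64, 1), (66, 1), (67, 1), (69, 1), (70, 1), (73, 1), (74, 1), (75, 1), (76, 1), (77, 1), (79, 1), (80, 1), (82, 1)]),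
    ([], [(1, 1), (4, 1), (9, 1), (12, 1), (13, 1), (14, 1), (17, 1), (18, 1), (22, 1), (23, 1), (25, 1), (28, 1), (33, 1), (34, 1), (36, 1), (39, 1), (40, 1), (42, 1), (45, 1), (46, 1), (47, 1), (50, 1), (52, 1), (53, 1), (54, 1), (59, 1), (60, 1), (61, 1), (62, 1), (63, 1), (66, 1), (67, 1), (68, 1), (69, 1), (70, 1), (71, 1), (72, 1), (75, 1), (76, 1), (79, 1), (81, 1), (82, 1), (84, 1)]),
    ([], [(1, 1), (5, 1), (6, 1), (7, 1), (9, 1), (10, 1), (12, 1), (13, 1), (14, 1), (16, 1), (17, 1), (20, 1), (25, 1), (31, 1), (32, 1), (34, 1), (36, 1), (37, 1), (39, 1), (41, 1), (42, 1), (43, 1), (46, 1), (51, 1), (55, 1), (56, 1), (64, 1), (68, 1), (69, 1), (72, 1), (73, 1), (76, 1), (78, 1), (79, 1), (82, 1), (83, 1), (85, 1)]),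
    ([], [(1, 1), (3, 1), (4, 1), (5, 1), (6, 1), (7, 1), (9, 1), (10, 1), (11, 1), (13, 1), (14, 1), (15, 1), (19, 1), (20, 1), (21, 1), (23, 1), (24, 1), (25, 1), (34, 1), (36, 1), (37, 1), (40, 1), (41, 1), (43, 1), (44, 1), (46, 1), (52, 1), (53, 1), (55, 1), (56, 1), (57, 1), (58, 1), (60, 1), (63, 1), (65, 1), (69, 1), (71, 1), (76, 1), (77, 1), (78, 1), (79, 1), (80, 1), (81, 1), (82, 1), (83, 1), (84, 1), (85, 1)]),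
    ([], [(2, 1), (3, 1), (7, 1), (8, 1), (9, 1), (11, 1), (14, 1), (16, 1), (17, 1), (18, 1), (19, 1), (22, 1), (23, 1), (24, 1), (29, 1), (32, 1), (34, 1), (36, 1), (40, 1), (41, 1), (43, 1), (44, 1), (46, 1), (47, 1), (55, 1), (60, 1), (63, 1), (65, 1), (66, 1), (67, 1), (69, 1), (70, 1), (73, 1), (74, 1), (75, 1), (76, 1), (77, 1), (79, 1), (80, 1), (82, 1)]),
    ([], [(0, 1), (3, 1), (4, 1), (6, 1), (11, 1), (13, 1), (14, 1), (15, 1), (16, 1), (17, 1), (18, 1), (19, 1), (20, 1), (23, 1), (26, 1), (27, 1), (28, 1), (29, 1), (31, 1), (32, 1), (34, 1), (36, 1), (37, 1), (43, 1), (44, 1), (46, 1), (49, 1), (50, 1), (51, 1), (52, 1), (56, 1), (57, 1), (58, 1), (59, 1), (60, 1), (61, 1), (62, 1), (63, 1), (74, 1), (76, 1), (78, 1), (79, 1), (82, 1), (83, 1), (85, 1)]),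
    ([], [(1, 1), (2, 1), (3, 1), (5, 1), (6, 1), (7, 1), (9, 1), (12, 1), (13, 1), (16, 1), (19, 1), (20, 1), (21, 1), (24, 1), (26, 1), (28, 1), (33, 1), (34, 1), (36, 1), (38, 1), (39, 1), (40, 1), (42, 1), (44, 1), (45, 1), (50, 1), (53, 1), (54, 1), (55, 1), (60, 1), (63, 1), (65, 1), (66, 1), (67, 1), (70, 1), (71, 1), (73, 1), (74, 1), (75, 1), (78, 1), (81, 1), (83, 1), (84, 1), (85, 1)]),
    ([], [(3, 1), (7, 1), (8, 1), (9, 1), (11, 1), (14, 1), (16, 1), (21, 1), (22, 1), (29, 1), (31, 1), (33, 1), (34, 1), (35, 1), (36, 1), (38, 1), (39, 1), (40, 1), (41, 1), (43, 1), (44, 1), (47, 1), (51, 1), (53, 1), (57, 1), (58, 1), (60, 1), (63, 1), (65, 1), (69, 1), (71, 1), (76, 1), (77, 1), (78, 1), (79, 1), (80, 1), (81, 1), (82, 1), (83, 1), (84, 1), (85, 1)]),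
    ([], [(5, 1), (6, 1), (9, 1), (10, 1), (11, 1), (14, 1), (16, 1), (21, 1), (22, 1), (28, 1), (29, 1), (31, 1), (32, 1), (34, 1), (36, 1), (37, 1), (39, 1), (41, 1), (42, 1), (43, 1), (46, 1), (48, 1), (50, 1), (51, 1), (53, 1), (54, 1)]),
    ([], [(2, 1), (4, 1), (6, 1), (7, 1), (8, 1), (10, 1), (11, 1), (15, 1), (16, 1), (18, 1), (19, 1), (21, 1), (22, 1), (23, 1), (26, 1), (28, 1), (29, 1), (33, 1), (34, 1), (35, 1), (36, 1), (40, 1), (41, 1), (42, 1), (44, 1), (45, 1), (48, 1), (49, 1), (53, 1), (54, 1), (55, 1), (56, 1), (57, 1), (58, 1), (59, 1), (60, 1), (61, 1), (62, 1), (63, 1), (74, 1), (76, 1), (78, 1), (79, 1), (82, 1), (83, 1), (85, 1)]),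
    ([], [(1, 1), (7, 1), (10, 1), (12, 1), (13, 1), (14, 1), (15, 1), (17, 1), (18, 1), (20, 1), (22, 1), (23, 1), (24, 1), (25, 1), (29, 1), (30, 1), (31, 1), (32, 1), (33, 1), (34, 1), (38, 1), (40, 1), (41, 1), (43, 1), (44, 1), (45, 1), (46, 1), (49, 1), (53, 1), (54, 1), (55, 1)]),
    ([], [(0, 1), (2, 1), (3, 1), (6, 1), (7, 1), (8, 1), (13, 1), (15, 1), (16, 1), (17, 1), (18, 1), (19, 1), (20, 1), (22, 1), (26, 1), (27, 1), (28, 1), (29, 1), (30, 1), (34, 1), (35, 1), (37, 1), (38, 1), (39, 1), (44, 1), (45, 1), (46, 1), (48, 1), (50, 1), (51, 1), (56, 1)]),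
    ([], [(4, 1), (5, 1), (6, 1), (9, 1), (10, 1), (11, 1), (14, 1), (16, 1), (21, 1), (22, 1), (28, 1), (29, 1), (31, 1), (32, 1), (34, 1), (36, 1), (37, 1), (39, 1), (41, 1), (42, 1), (43, 1), (46, 1), (48, 1), (50, 1), (51, 1), (54, 1), (56, 1)]),
    ([], [(0, 1), (2, 1), (3, 1), (5, 1), (6, 1), (7, 1), (10, 1), (11, 1), (13, 1), (14, 1), (15, 1), (16, 1), (17, 1), (27, 1), (30, 1), (32, 1), (33, 1), (36, 1), (37, 1), (38, 1), (41, 1), (42, 1), (43, 1), (44, 1), (45, 1), (46, 1), (47, 1), (48, 1), (52, 1), (54, 1), (55, 1), (56, 1)]),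
    ([], [(0, 1), (1, 1), (3, 1), (6, 1), (9, 1), (11, 1), (12, 1), (14, 1), (16, 1), (18, 1), (19, 1), (23, 1), (24, 1), (25, 1), (30, 1), (32, 1), (33, 1), (37, 1), (38, 1), (39, 1), (41, 1), (42, 1), (43, 1), (46, 1), (49, 1), (52, 1), (54, 1), (56, 1), (57, 1), (58, 1), (64, 1), (66, 1), (67, 1), (69, 1), (70, 1), (73, 1), (74, 1), (75, 1), (77, 1), (78, 1), (80, 1), (83, 1), (85, 1)]),
    ([], [(0, 1), (3, 1), (5, 1), (6, 1), (7, 1), (8, 1), (10, 1), (12, 1), (15, 1), (16, 1), (21, 1), (22, 1), (25, 1), (26, 1), (27, 1), (29, 1), (31, 1), (35, 1), (36, 1), (43, 1), (45, 1), (46, 1), (48, 1), (49, 1), (50, 1), (51, 1), (54, 1), (56, 1), (57, 1), (58, 1), (59, 1), (60, 1), (61, 1), (62, 1), (63, 1), (64, 1), (74, 1)]),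
    ([], [(1, 1), (2, 1), (4, 1), (5, 1), (6, 1), (7, 1), (9, 1), (10, 1), (13, 1), (14, 1), (16, 1), (17, 1), (18, 1), (20, 1), (21, 1), (23, 1), (26, 1), (27, 1), (29, 1), (32, 1), (33, 1), (35, 1), (36, 1), (37, 1), (42, 1), (45, 1), (46, 1), (48, 1), (52, 1), (53, 1), (55, 1), (57, 1), (58, 1), (66, 1), (67, 1), (69, 1), (70, 1), (73, 1), (74, 1), (75, 1), (76, 1), (77, 1), (79, 1), (80, 1), (82, 1)]),
    ([], [(0, 1), (1, 1), (3, 1), (4, 1), (7, 1), (8, 1), (9, 1), (10, 1), (11, 1), (12, 1), (13, 1), (16, 1), (17, 1), (18, 1), (19, 1), (23, 1), (24, 1), (29, 1), (30, 1), (32, 1), (34, 1), (41, 1), (42, 1), (47, 1), (50, 1), (51, 1), (54, 1), (55, 1), (56, 1), (57, 1), (58, 1), (66, 1), (67, 1), (69, 1), (70, 1), (73, 1), (74, 1), (75, 1), (76, 1), (77, 1), (79, 1), (80, 1), (82, 1)]),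
    ([], [(0, 1), (3, 1), (5, 1), (8, 1), (10, 1), (13, 1), (14, 1), (16, 1), (17, 1), (19, 1), (27, 1), (28, 1), (29, 1), (30, 1), (32, 1), (33, 1), (34, 1), (38, 1), (40, 1), (42, 1), (47, 1), (49, 1), (52, 1), (54, 1), (56, 1), (57, 1), (58, 1), (59, 1), (60, 1), (61, 1), (62, 1), (63, 1), (74, 1), (76, 1), (78, 1), (79, 1), (82, 1), (83, 1), (85, 1)]),
    ([], [(0, 1), (1, 1), (3, 1), (5, 1), (8, 1), (9, 1), (13, 1), (14, 1), (15, 1), (17, 1), (19, 1), (24, 1), (27, 1), (28, 1), (29, 1), (30, 1), (31, 1), (37, 1), (39, 1), (42, 1), (43, 1), (44, 1), (45, 1), (46, 1), (47, 1), (51, 1), (52, 1), (53, 1), (54, 1), (55, 1), (57, 1), (58, 1), (59, 1), (60, 1), (61, 1), (62, 1), (63, 1), (74, 1), (76, 1), (78, 1), (79, 1), (82, 1), (83, 1), (85, 1)]),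
    ([], [(1, 1), (5, 1), (6, 1), (8, 1), (9, 1), (11, 1), (12, 1), (14, 1), (15, 1), (18, 1), (19, 1), (20, 1), (21, 1), (24, 1), (25, 1), (26, 1), (31, 1), (32, 1), (36, 1), (39, 1), (40, 1), (42, 1), (44, 1), (45, 1), (48, 1), (50, 1), (51, 1), (53, 1), (55, 1), (56, 1)]),
    ([], [(1, 1), (4, 1), (5, 1), (8, 1), (10, 1), (13, 1), (14, 1), (16, 1), (19, 1), (21, 1), (26, 1), (32, 1), (33, 1), (35, 1), (37, 1), (40, 1), (41, 1), (48, 1), (51, 1), (52, 1), (56, 1)]),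
    ([], [(4, 1), (5, 1), (6, 1), (9, 1), (11, 1), (12, 1), (15, 1), (17, 1), (18, 1), (24, 1), (27, 1), (29, 1), (31, 1), (32, 1), (36, 1), (37, 1), (39, 1), (40, 1), (42, 1), (43, 1), (44, 1), (45, 1), (48, 1), (50, 1), (52, 1), (55, 1)]),
    ([], [(0, 1), (3, 1), (4, 1), (5, 1), (6, 1), (9, 1), (10, 1), (11, 1), (12, 1), (15, 1), (16, 1), (19, 1), (21, 1), (22, 1), (24, 1), (25, 1), (26, 1), (27, 1), (29, 1), (30, 1), (32, 1), (33, 1), (34, 1), (35, 1), (36, 1), (37, 1), (39, 1), (42, 1), (45, 1), (46, 1), (48, 1), (49, 1), (51, 1), (53, 1), (56, 1), (57, 1), (58, 1), (59, 1), (60, 1), (61, 1), (62, 1), (63, 1), (74, 1), (76, 1), (78, 1), (79, 1), (82, 1), (83, 1), (85, 1)]),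
    ([], [(2, 1), (5, 1), (6, 1), (7, 1), (10, 1), (11, 1), (12, 1), (13, 1), (18, 1), (19, 1), (20, 1), (23, 1), (24, 1), (26, 1), (27, 1), (28, 1), (29, 1), (31, 1), (32, 1), (39, 1), (41, 1), (43, 1), (44, 1), (46, 1), (48, 1), (51, 1), (54, 1), (55, 1), (57, 1), (58, 1), (59, 1), (60, 1), (61, 1), (62, 1), (63, 1), (74, 1), (76, 1), (78, 1), (79, 1), (82, 1), (83, 1), (85, 1)]),
    ([], [(4, 1), (5, 1), (6, 1), (9, 1), (10, 1), (11, 1), (14, 1), (16, 1), (21, 1), (22, 1), (28, 1), (29, 1), (31, 1), (32, 1), (34, 1), (36, 1), (37, 1), (39, 1), (41, 1), (42, 1), (43, 1), (46, 1), (48, 1), (50, 1), (51, 1), (53, 1), (54, 1)]),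
    ([], [(0, 1), (1, 1), (2, 1), (3, 1), (6, 1), (7, 1), (10, 1), (13, 1), (14, 1), (15, 1), (17, 1), (18, 1), (21, 1), (22, 1), (25, 1), (28, 1), (30, 1), (32, 1), (33, 1), (34, 1), (35, 1), (38, 1), (39, 1), (43, 1), (46, 1), (50, 1), (52, 1), (53, 1), (56, 1)]),
    ([], [(1, 1), (4, 1), (7, 1), (10, 1), (12, 1), (13, 1), (14, 1), (15, 1), (17, 1), (18, 1), (22, 1), (23, 1), (24, 1), (25, 1), (29, 1), (30, 1), (31, 1), (32, 1), (33, 1), (34, 1), (38, 1), (40, 1), (43, 1), (44, 1), (45, 1), (46, 1), (53, 1), (54, 1), (55, 1)]),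
    ([], [(0, 1), (2, 1), (3, 1), (4, 1), (17, 1), (19, 1), (21, 1), (25, 1), (26, 1), (29, 1), (30, 1), (32, 1), (34, 1), (35, 1), (36, 1), (39, 1), (40, 1), (42, 1), (43, 1), (47, 1), (48, 1), (51, 1), (52, 1), (54, 1)]),
    ([], [(1, 1), (4, 1), (5, 1), (7, 1), (9, 1), (10, 1), (11, 1), (12, 1), (13, 1), (14, 1), (16, 1), (19, 1), (22, 1), (27, 1), (28, 1), (37, 1), (38, 1), (39, 1), (40, 1), (41, 1), (43, 1), (46, 1), (47, 1), (48, 1), (53, 1), (54, 1), (55, 1)]),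
    ([], [(0, 1), (2, 1), (3, 1), (4, 1), (7, 1), (8, 1), (9, 1), (11, 1), (14, 1), (15, 1), (16, 1), (18, 1), (19, 1), (24, 1), (25, 1), (28, 1), (29, 1), (30, 1), (31, 1), (35, 1), (36, 1), (37, 1), (38, 1), (42, 1), (45, 1), (48, 1), (50, 1), (51, 1), (54, 1)]),
    ([], [(6, 1), (10, 1), (14, 1), (15, 1), (17, 1), (18, 1), (19, 1), (20, 1), (21, 1), (22, 1), (23, 1), (24, 1), (25, 1), (27, 1), (29, 1), (36, 1), (41, 1), (42, 1), (43, 1), (44, 1), (45, 1), (46, 1), (47, 1), (49, 1), (50, 1), (51, 1), (52, 1), (54, 1), (56, 1)]),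
    ([], [(4, 1), (7, 1), (9, 1), (10, 1), (13, 1), (15, 1), (17, 1), (18, 1), (19, 1), (20, 1), (21, 1), (23, 1), (24, 1), (25, 1), (26, 1), (27, 1), (28, 1), (29, 1), (30, 1), (36, 1), (37, 1), (38, 1), (46, 1), (49, 1), (50, 1), (51, 1), (52, 1), (53, 1), (55, 1)]),
    ([], [(0, 1), (1, 1), (2, 1), (3, 1), (5, 1), (6, 1), (8, 1), (10, 1), (12, 1), (13, 1), (14, 1), (17, 1), (18, 1), (20, 1), (21, 1), (22, 1), (23, 1), (25, 1), (26, 1), (27, 1), (28, 1), (29, 1), (33, 1), (34, 1), (37, 1), (39, 1), (42, 1), (43, 1), (44, 1), (45, 1), (46, 1), (47, 1), (48, 1), (51, 1), (53, 1), (54, 1)]),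
    ([], [(4, 1), (6, 1), (7, 1), (8, 1), (13, 1), (15, 1), (16, 1), (18, 1), (21, 1), (22, 1), (23, 1), (25, 1), (27, 1), (28, 1), (32, 1), (36, 1), (37, 1), (38, 1), (40, 1), (42, 1), (43, 1), (44, 1), (45, 1), (46, 1), (47, 1), (49, 1), (50, 1), (52, 1), (54, 1), (56, 1)]),
    ([], [(40, 1), (41, 1)]),
    ([], [(29, 1)]),
    ([], [(20, 1)]),
    ([], [(4, 1), (6, 1), (7, 1), (8, 1), (13, 1), (15, 1), (16, 1), (18, 1), (20, 1), (21, 1), (22, 1), (25, 1), (27, 1), (28, 1), (32, 1), (34, 1), (36, 1), (37, 1), (38, 1), (40, 1), (42, 1), (43, 1), (44, 1), (45, 1), (46, 1), (47, 1), (50, 1), (52, 1), (54, 1), (56, 1)]),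
    ([], [(1, 1), (6, 1), (7, 1), (8, 1), (13, 1), (15, 1), (16, 1), (18, 1), (21, 1), (22, 1), (25, 1), (26, 1), (27, 1), (30, 1), (32, 1), (36, 1), (41, 1), (42, 1), (43, 1), (44, 1), (45, 1), (46, 1), (47, 1), (49, 1), (50, 1), (51, 1), (52, 1), (54, 1), (56, 1)]),
    ([], [(1, 1), (4, 1), (6, 1), (7, 1), (8, 1), (13, 1), (15, 1), (16, 1), (18, 1), (20, 1), (21, 1), (22, 1), (23, 1), (24, 1), (25, 1), (26, 1), (27, 1), (28, 1), (29, 1), (33, 1), (36, 1), (41, 1), (42, 1), (43, 1), (44, 1), (45, 1), (46, 1), (47, 1), (49, 1), (50, 1), (51, 1), (52, 1), (54, 1), (56, 1)]),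
    ([], [(0, 1), (1, 1), (2, 1), (3, 1), (4, 1), (5, 1), (7, 1), (10, 1), (11, 1), (12, 1), (13, 1), (14, 1), (15, 1), (17, 1), (18, 1), (19, 1), (20, 1), (22, 1), (24, 1), (25, 1), (29, 1), (34, 1), (35, 1), (37, 1), (42, 1), (43, 1), (44, 1), (48, 1), (49, 1)]),
    ([], [(0, 1), (2, 1), (3, 1), (4, 1), (5, 1), (6, 1), (8, 1), (10, 1), (11, 1), (12, 1), (14, 1), (16, 1), (17, 1), (19, 1), (20, 1), (21, 1), (24, 1), (26, 1), (27, 1), (30, 1), (33, 1), (34, 1), (35, 1), (36, 1), (37, 1), (41, 1), (45, 1), (46, 1), (47, 1), (48, 1), (50, 1), (51, 1), (52, 1), (54, 1), (56, 1)]),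
    ([], [(4, 1), (6, 1), (7, 1), (8, 1), (13, 1), (15, 1), (16, 1), (18, 1), (21, 1), (22, 1), (24, 1), (25, 1), (26, 1), (27, 1), (28, 1), (32, 1), (36, 1), (37, 1), (38, 1), (41, 1), (42, 1), (43, 1), (44, 1), (45, 1), (46, 1), (47, 1), (50, 1), (51, 1), (52, 1), (54, 1), (56, 1)])]

/-- A word from its exponents. -/
def dec : ℕ → ℕ → ℕ → List ℕ
  | 0, _, _ => []
  | k + 1, i, e => List.replicate (e % 2) i ++ dec k (i + 1) (e / 2)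

/-- part of an orbit -/
def orb0_0 : List (ℕ × ℕ) := [(8, 0), (10, 2048), (12, 1024), (14, 3072), (24, 2592), (27, 544), (28, 264), (31, 1568), (40, 4), (42, 640), (45, 16), (47, 2064), (56, 36), (59, 514), (61, 48), (62, 224), (73, 768), (75, 64), (77, 1792), (79, 1088), (89, 288), (90, 17), (93, 130), (94, 152), (105, 2432), (107, 384), (108, 80), (110, 1408), (121, 24), (122, 2072), (124, 160), (127, 1), (137, 2560), (139, 512), (141, 144), (143, 1536), (153, 3104), (154, 1056), (157, 2080), (158, 32), (169, 2176), (171, 128), (172, 3), (174, 1152), (185, 416), (186, 1026), (188, 2), (191, 2050), (201, 2304), (203, 256), (205, 3328), (207, 1280), (217, 8), (218, 2056), (221, 1032), (222, 96), (233, 260), (235, 192), (236, 272), (238, 1216), (249, 304), (250, 672), (252, 136), (255, 513)]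

/-- part of an orbit -/
def orb1_0 : List (ℕ × ℕ) := [(16, 0), (20, 276), (48, 610), (54, 2338), (82, 2296), (86, 2732), (114, 1178), (116, 1189), (146, 2088), (150, 872), (178, 545), (180, 2570), (210, 1488), (214, 1680), (242, 230), (244, 934)]

/-- part of an orbit -/
def orb2_0 : List (ℕ × ℕ) := [(32, 0), (100, 2643), (164, 1287), (228, 2644)]

/-- Orbits inside the subgroup. -/
def orbits : List (ℕ × List (ℕ × List ℕ)) := [(8, orb0_0), (16, orb1_0), (32, orb2_0)].map fun t => (t.1, t.2.map fun e => (e.1, dec 12 0 e.2))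

theorem checks : checksU 2 8 mats cert sw gw orbits = true := by decide +kernel

theorem lin_ok : cert.linOK = true :=
  CfsgLib.Spor.SchurCert.Packed.linOK_of_linP cert (by decide +kernel)

end CfsgLib.Lie.MultExc.OMinusEightTwo.P2
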