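import Cfsg.Agent.Lib.Lie.MultExc.MatCert.OmegaElts

/-!
Isometries of the form of minus type in dimension eight over the field of order 2, with coded columns.
-/

set_option autoImplicit false
set_option maxRecDepth 100000
set_option maxHeartbeats 0

namespace CfsgLib.Lie.MultExc.OMinusEightTwo

open CfsgLib.Lie.MultExc.MatCert

/-- The form on codes. -/
def qc (x : ℕ) : ℕ :=
  (((List.range 3).foldr (fun i acc => dg 2 x i * dg 2 x (i + 3) + acc) 0) + dg 2 x 6 * dg 2 x 6 + dg 2 x 6 * dg 2 x 7 + dg 2 x 7 * dg 2 x 7) % 2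

/-- The elements, each with two factors of odd order. -/
def entries : List (List ℕ × (List ℕ × ℕ) × (List ℕ × ℕ)) := [
    ([1, 3, 6, 127, 117, 34, 64, 130], ([89, 178, 214, 157, 122, 121, 187, 26], 17), ([207, 48, 105, 73, 59, 222, 177, 209], 17)),
    ([1, 3, 6, 188, 245, 102, 66, 133], ([7, 181, 169, 83, 244, 236, 223, 68], 9), ([164, 55, 165, 31, 180, 205, 37, 85], 21)),
    ([1, 2, 5, 40, 146, 231, 71, 133], ([181, 150, 34, 203, 235, 56, 224, 67], 3), ([7, 28, 169, 83, 172, 245, 46, 106], 21)),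
    ([1, 3, 4, 217, 86, 165, 69, 130], ([73, 20, 107, 24, 188, 243, 63, 136], 7), ([235, 124, 166, 137, 211, 243, 11, 187], 17)),
    ([1, 2, 5, 45, 151, 35, 66, 128], ([146, 141, 55, 100, 158, 235, 111, 74], 9), ([214, 42, 115, 116, 114, 79, 52, 197], 17)),
    ([1, 3, 4, 158, 211, 103, 66, 135], ([73, 45, 243, 137, 31, 27, 213, 199], 7), ([31, 185, 48, 231, 214, 186, 71, 97], 17)),
    ([1, 2, 4, 75, 21, 34, 64, 129], ([110, 2, 107, 34, 215, 203, 41, 170], 5), ([236, 2, 233, 14, 122, 8, 70, 194], 5)),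
    ([1, 2, 5, 171, 87, 34, 65, 130], ([110, 215, 28, 101, 105, 179, 196, 241], 17), ([42, 116, 101, 107, 217, 205, 254, 175], 15)),
    ([1, 2, 4, 203, 21, 34, 65, 129], ([244, 34, 42, 54, 229, 235, 126, 190], 3), ([228, 201, 255, 235, 238, 2, 170, 106], 9)),
    ([1, 2, 4, 139, 21, 34, 65, 128], ([166, 245, 218, 12, 105, 107, 173, 227], 3), ([167, 48, 222, 55, 21, 169, 95, 118], 17)),
    ([1, 2, 4, 12, 16, 33, 64, 128], ([147, 42, 150, 115, 108, 116, 232, 71], 3), ([146, 45, 151, 222, 121, 244, 168, 199], 3)),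
    ([1, 2, 4, 10, 17, 32, 64, 128], ([59, 24, 244, 7, 42, 47, 111, 175], 5), ([222, 56, 238, 245, 17, 229, 96, 160], 7)),
    ([3, 2, 4, 8, 24, 32, 64, 128], ([103, 114, 1, 151, 48, 14, 209, 39], 9), ([151, 147, 90, 233, 180, 77, 129, 152], 17)),
    ([5, 2, 4, 8, 16, 40, 64, 128], ([141, 94, 116, 147, 255, 90, 71, 72], 17), ([124, 55, 34, 139, 151, 49, 11, 246], 17)),
    ([33, 2, 12, 8, 16, 32, 64, 128], ([54, 164, 235, 233, 143, 191, 9, 199], 5), ([249, 12, 218, 231, 110, 94, 119, 97], 9)),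
    ([1, 6, 4, 8, 16, 48, 64, 128], ([87, 122, 5, 3, 188, 89, 194, 58], 3), ([86, 12, 82, 45, 217, 243, 130, 156], 21)),
    ([1, 82, 4, 8, 16, 32, 64, 144], ([79, 110, 108, 203, 150, 114, 97, 237], 17), ([121, 90, 244, 201, 31, 122, 67, 226], 17)),
    ([169, 62, 5, 17, 122, 14, 190, 81], ([1, 2, 4, 8, 16, 32, 64, 128], 1), ([169, 62, 5, 17, 122, 14, 190, 81], 9)),
    ([218, 105, 101, 94, 151, 124, 119, 138], ([1, 2, 4, 8, 16, 32, 64, 128], 1), ([218, 105, 101, 94, 151, 124, 119, 138], 3)),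
    ([55, 252, 250, 179, 238, 233, 118, 129], ([1, 2, 4, 8, 16, 32, 64, 128], 1), ([55, 252, 250, 179, 238, 233, 118, 129], 3)),
    ([115, 238, 75, 2, 77, 33, 131, 13], ([1, 2, 4, 8, 16, 32, 64, 128], 1), ([115, 238, 75, 2, 77, 33, 131, 13], 3)),
    ([236, 33, 252, 82, 5, 238, 44, 109], ([17, 218, 191, 179, 171, 32, 80, 123], 5), ([207, 82, 188, 185, 21, 54, 44, 109], 9)),
    ([222, 221, 4, 211, 141, 186, 159, 25], ([127, 24, 79, 75, 214, 172, 144, 135], 17), ([121, 222, 12, 33, 115, 221, 130, 63], 9)),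
    ([201, 205, 203, 62, 47, 90, 142, 11], ([49, 87, 122, 35, 32, 59, 155, 64], 5), ([201, 230, 117, 171, 186, 20, 126, 133], 17))]

/-- The matrices. -/
def mats : List (List ℕ) := entries.map Prod.fst

theorem entries_ok : entries.all (entryOK 2 8 qc) = true := by decide +kernel

end CfsgLib.Lie.MultExc.OMinusEightTwo
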